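import Cfsg.Agent.Lib.TwoPrimeDim.Centre
import Cfsg.Agent.Lib.PrimeDim.OrthProper

/-!
The centre of the commutant of a group of isometries is closed under adjoints: a field of odd degree in it is
self-adjoint, and blocks of odd number are orthogonal and isometric.
-/

set_option autoImplicit false
set_option linter.unusedSectionVars false
set_option linter.style.haveILetI false

namespace Cfsg.Agent.Lib.OrthNine.Adjoint

open Matrix Module QuadraticMap Cfsg.Agent.Lib.MaxSub
open Cfsg.Agent.Lib.TwoPrimeDim (centre mem_centre centre_comm centre_normalized Blocks img mem_img_idem map_img_conj)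
open Cfsg.Agent.Lib.Geometry (quad_polar_comm quad_polar_self)
open scoped MatrixGroups Matrix

attribute [-simp] QuadraticMap.polarBilin_apply_apply

variable {ι : Type} [Fintype ι] [DecidableEq ι] {F : Type*} [Field F] {Q : QuadraticForm F (ι → F)}

local notation "MM" => Matrix ι ι F

/-- The two matrices are adjoint. -/
def Adj (Q : QuadraticForm F (ι → F)) (a a' : MM) : Prop :=
  ∀ u w, polarBilin Q (a *ᵥ u) w = polarBilin Q u (a' *ᵥ w)

variable (hN : (polarBilin Q).Nondegenerate)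

theorem Adj.symm {a a' : MM} (h : Adj Q a a') : Adj Q a' a := fun u w => by
  rw [quad_polar_comm Q (a' *ᵥ u) w, quad_polar_comm Q u (a *ᵥ w)]
  exact (h w u).symm

theorem Adj.mul {a a' b b' : MM} (ha : Adj Q a a') (hb : Adj Q b b') : Adj Q (a * b) (b' * a') := fun u w => by
  rw [← Matrix.mulVec_mulVec, ← Matrix.mulVec_mulVec, ha, hb]

theorem Adj.conj {a a' : MM} (ha : Adj Q a a') {g : GL ι F} (hg : g ∈ Cfsg.isometryGroup F ⇑Q) :
    Adj Q ((g : MM) * a * ((g⁻¹ : GL ι F) : MM)) ((g : MM) * a' * ((g⁻¹ : GL ι F) : MM)) := fun u w => by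
  have hgi : g⁻¹ ∈ Cfsg.isometryGroup F ⇑Q := inv_mem hg
  calc polarBilin Q (((g : MM) * a * ((g⁻¹ : GL ι F) : MM)) *ᵥ u) w
      = polarBilin Q (((g⁻¹ : GL ι F) : MM) *ᵥ (((g : MM) * a * ((g⁻¹ : GL ι F) : MM)) *ᵥ u))
          (((g⁻¹ : GL ι F) : MM) *ᵥ w) := (Orth.iso_polar hgi _ _).symm
    _ = polarBilin Q (a *ᵥ (((g⁻¹ : GL ι F) : MM) *ᵥ u)) (((g⁻¹ : GL ι F) : MM) *ᵥ w) := by
        simp only [Matrix.mulVec_mulVec, ← mul_assoc, Units.inv_mul, one_mul]
    _ = polarBilin Q (((g⁻¹ : GL ι F) : MM) *ᵥ u) (a' *ᵥ (((g⁻¹ : GL ι F) : MM) *ᵥ w)) := ha _ _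
    _ = polarBilin Q ((g : MM) *ᵥ (((g⁻¹ : GL ι F) : MM) *ᵥ u))
          ((g : MM) *ᵥ (a' *ᵥ (((g⁻¹ : GL ι F) : MM) *ᵥ w))) := (Orth.iso_polar hg _ _).symm
    _ = _ := by simp only [Matrix.mulVec_mulVec, ← mul_assoc, Units.mul_inv, Matrix.one_mulVec]

include hN in
theorem Adj.unique {a b c : MM} (h1 : Adj Q a b) (h2 : Adj Q a c) : b = c := by
  refine Matrix.ext_of_mulVec_single fun j => sub_eq_zero.mp (hN.2 _ fun u => ?_)
  show polarBilin Q u _ = 0
  rw [map_sub, ← h1, ← h2, sub_self]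

include hN in
theorem Adj.left_unique {a b c : MM} (h1 : Adj Q b a) (h2 : Adj Q c a) : b = c :=
  Adj.unique hN h1.symm h2.symm

theorem adj_one : Adj Q (1 : MM) 1 := fun u w => by rw [Matrix.one_mulVec, Matrix.one_mulVec]

theorem adj_iso {g : GL ι F} (hg : g ∈ Cfsg.isometryGroup F ⇑Q) : Adj Q (g : MM) ((g⁻¹ : GL ι F) : MM) :=
  fun u w => by
  conv_lhs => rw [← Matrix.one_mulVec w, ← Units.mul_inv g, ← Matrix.mulVec_mulVec]
  exact Orth.iso_polar hg _ _

include hN in
theorem exists_adj (a : MM) : ∃ a', Adj Q a a' := by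
  refine ⟨LinearMap.toMatrix' (LinearMap.BilinForm.leftAdjointOfNondegenerate (polarBilin Q) hN (Matrix.toLin' a)),
    fun u w => ?_⟩
  have h := LinearMap.BilinForm.isAdjointPairLeftAdjointOfNondegenerate (polarBilin Q) hN (Matrix.toLin' a) w u
  simp only [Matrix.toLin'_apply] at h
  rw [← Matrix.toLin'_apply (LinearMap.toMatrix' _) w, Matrix.toLin'_toMatrix', quad_polar_comm Q (a *ᵥ u) w,
    quad_polar_comm Q u]
  exact h.symm

variable {N : Subgroup (GL ι F)} (hiso : N ≤ Cfsg.isometryGroup F ⇑Q)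

include hN hiso in
theorem adj_commutant {a a' : MM} (h : Adj Q a a') (ha : ∀ g ∈ N, (g : MM) * a = a * (g : MM)) :
    ∀ g ∈ N, (g : MM) * a' = a' * (g : MM) := by
  intro g hg
  have h1 : Adj Q (a * ((g⁻¹ : GL ι F) : MM)) ((g : MM) * a') := h.mul (adj_iso (hiso hg)).symm
  have h3 : Adj Q (((g⁻¹ : GL ι F) : MM) * a) (a' * (g : MM)) := (adj_iso (hiso hg)).symm.mul h
  rw [ha _ (N.inv_mem hg)] at h3
  exact h1.unique hN h3

include hN hiso in
theorem adj_centre {a a' : MM} (h : Adj Q a a') (ha : a ∈ centre N) : a' ∈ centre N := by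
  rw [mem_centre] at ha ⊢
  refine ⟨adj_commutant hN hiso h ha.1, fun X hX => ?_⟩
  obtain ⟨X', hX'⟩ := exists_adj hN X
  have h1 := h.mul hX'.symm
  have h3 := hX'.symm.mul h
  rw [ha.2 X' (adj_commutant hN hiso hX' hX)] at h3
  exact h1.unique hN h3

include hN hiso in
/-- A field of odd degree in the centre is self-adjoint. -/
theorem self_adjoint_of_field [Finite F] (h2 : (2 : F) ≠ 0) {r : ℕ} (hr : Odd r)
    (hK : Cfsg.Geo.IsFieldSubalgebra r (centre N)) : ∀ k ∈ centre N, Adj Q k k := by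
  let P : F → Submodule F MM := fun s =>
    { carrier := {k | k ∈ centre N ∧ ∀ u w, polarBilin Q (k *ᵥ u) w = s * polarBilin Q u (k *ᵥ w)}
      add_mem' := fun {a c} ha hc => ⟨(centre N).add_mem ha.1 hc.1, fun u w => by
        rw [Matrix.add_mulVec, Matrix.add_mulVec, map_add, map_add, LinearMap.add_apply, ha.2, hc.2, mul_add]⟩
      zero_mem' := ⟨(centre N).zero_mem, fun u w => by simp⟩
      smul_mem' := fun c a ha => ⟨(centre N).smul_mem ha.1 c, fun u w => by
        rw [Matrix.smul_mulVec, Matrix.smul_mulVec, map_smul, map_smul, LinearMap.smul_apply, ha.2,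
          smul_eq_mul, smul_eq_mul]; ring⟩ }
  have hP : ∀ {s k}, k ∈ P s ↔ k ∈ centre N ∧ ∀ u w, polarBilin Q (k *ᵥ u) w = s * polarBilin Q u (k *ᵥ w) :=
    fun {s k} => Iff.rfl
  have hinf : P 1 ⊓ P (-1) = ⊥ := by
    refine (Submodule.eq_bot_iff _).mpr fun k hk => ?_
    refine Matrix.ext_of_mulVec_single fun j => ?_
    rw [Matrix.zero_mulVec]
    refine hN.1 _ fun w => ?_
    show polarBilin Q (k *ᵥ Pi.single j 1) w = 0
    have h1 := (hP.mp hk.1).2 (Pi.single j 1) w
    have h3 := (hP.mp hk.2).2 (Pi.single j 1) w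
    refine (mul_eq_zero.mp ?_).resolve_left h2
    linear_combination h1 + h3
  have hsup : P 1 ⊔ P (-1) = Subalgebra.toSubmodule (centre N) := by
    refine le_antisymm (sup_le (fun k hk => hk.1) fun k hk => hk.1) fun k hk => ?_
    obtain ⟨k', hkk⟩ := exists_adj hN k
    have hk' := adj_centre hN hiso hkk hk
    have hkk' := hkk.symm
    refine Submodule.mem_sup.mpr ⟨(2 : F)⁻¹ • (k + k'), ⟨(centre N).smul_mem ((centre N).add_mem hk hk') _,
      fun u w => ?_⟩, (2 : F)⁻¹ • (k - k'), ⟨(centre N).smul_mem ((centre N).sub_mem hk hk') _, fun u w => ?_⟩, ?_⟩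
    · simp only [Matrix.smul_mulVec, Matrix.add_mulVec, map_smul, map_add, LinearMap.smul_apply,
        LinearMap.add_apply, hkk u w, hkk' u w, smul_eq_mul]
      ring
    · simp only [Matrix.smul_mulVec, Matrix.sub_mulVec, map_smul, map_sub, LinearMap.smul_apply,
        LinearMap.sub_apply, hkk u w, hkk' u w, smul_eq_mul]
      ring
    · rw [← smul_add, add_add_sub_cancel, ← two_smul F, smul_smul, inv_mul_cancel₀ h2, one_smul]
  have hcount := Submodule.finrank_sup_add_finrank_inf_eq (P 1) (P (-1))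
  rw [hinf, hsup, finrank_bot, add_zero,
    show finrank F (Subalgebra.toSubmodule (centre N)) = finrank F (centre N) from rfl, hK.finrank_eq] at hcount
  have hzero : P (-1) = ⊥ := by
    by_contra hne
    obtain ⟨k, hk, hk0⟩ := (Submodule.ne_bot_iff _).mp hne
    obtain ⟨y, hy, hky⟩ := hK.inv k hk.1 hk0
    have hmap : ∀ s : F, ∀ a ∈ P s, k * a ∈ P (-s) := fun s a ha => ⟨(centre N).mul_mem hk.1 ha.1, fun u w => by
      rw [← Matrix.mulVec_mulVec, (hP.mp hk).2, (hP.mp ha).2, Matrix.mulVec_mulVec, centre_comm ha.1 hk.1]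
      ring⟩
    have hle : ∀ s : F, finrank F (P s) ≤ finrank F (P (-s)) := fun s => by
      refine LinearMap.finrank_le_finrank_of_injective
        (f := ((LinearMap.mulLeft F k).domRestrict (P s)).codRestrict (P (-s)) fun a => hmap s a a.2) ?_
      intro a c hac
      have h : k * (a : MM) = k * c := congrArg Subtype.val hac
      have h' := congrArg (y * ·) h
      simp only [← mul_assoc, hK.comm y hy k hk.1, hky, one_mul] at h'
      exact Subtype.ext h'
    have h1 := hle 1
    have h3 := hle (-1)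
    rw [neg_neg] at h3
    obtain ⟨m, hm⟩ := hr
    omega
  intro k hk u w
  have h : k ∈ P 1 ⊔ P (-1) := hsup.symm ▸ hk
  rw [hzero, sup_bot_eq] at h
  rw [(hP.mp h).2, one_mul]

include hN hiso in
/-- An odd number of blocks are orthogonal, non-degenerate and isometric. -/
theorem blocks_orthogonal [Finite F] {G : Subgroup (GL ι F)} (hGiso : G ≤ Cfsg.isometryGroup F ⇑Q) {t w : ℕ}
    (ht : Odd t) {e : Fin t → MM} (hB : Blocks G N w e) :
    Cfsg.Geo.IsOrthogonalMDecomposition (⇑Q) w fun i => img (e i) := by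
  have hmapI : ∀ i, ∃ j, Adj Q (e i) (e j) := by
    intro i
    obtain ⟨a, ha⟩ := exists_adj hN (e i)
    have hac := adj_centre hN hiso ha (hB.mem i)
    have haa : a * a = a := Adj.unique hN (ha.mul ha) (by rwa [hB.idem])
    have ha0 : a ≠ 0 := fun h => hB.ne_zero i (Adj.left_unique hN ha (by
      rw [h]; intro u v; simp))
    obtain ⟨j, hj⟩ := hB.exists_eq hac haa ha0 fun j => by
      obtain ⟨b, hb⟩ := exists_adj hN (e j)
      have hbc := adj_centre hN hiso hb (hB.mem j)
      have hbb : b * b = b := Adj.unique hN (hb.mul hb) (by rwa [hB.idem])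
      rcases hB.prim i b hbc hbb with h | h
      · left
        have h1 : Adj Q (e i * b) (e j * a) := ha.mul hb.symm
        rw [h, centre_comm (hB.mem j) hac] at h1
        exact Adj.unique hN h1 (by intro u v; simp)
      · right
        have h1 : Adj Q (e i * b) (e j * a) := ha.mul hb.symm
        rw [h, centre_comm (hB.mem j) hac] at h1
        exact Adj.unique hN h1 ha
    exact ⟨j, hj ▸ ha⟩
  choose π hπ using hmapI
  have hinj : ∀ i j, e i = e j → i = j := fun i j h => by
    by_contra hne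
    have := hB.orth i j hne
    rw [← h, hB.idem] at this
    exact hB.ne_zero i this
  have hπ2 : ∀ i, π (π i) = i := fun i => hinj _ _ ((hπ (π i)).unique hN (hπ i).symm)
  obtain ⟨i₀, hi₀⟩ : ∃ i, π i = i := by
    by_contra hc
    push Not at hc
    have h := Finset.sum_involution (s := (Finset.univ : Finset (Fin t))) (f := fun _ => (1 : ZMod 2))
      (fun i _ => π i) (fun i _ => by decide) (fun i _ _ => hc i) (fun i _ => Finset.mem_univ _) (fun i _ => hπ2 i)
    rw [Finset.sum_const, Finset.card_univ, Fintype.card_fin, nsmul_one, ZMod.natCast_eq_zero_iff_even] at h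
    exact Nat.not_even_iff_odd.mpr ht h
  have hself : ∀ i, Adj Q (e i) (e i) := fun i => by
    obtain ⟨g, hg, hge⟩ := hB.trans i₀ i
    have h := (hπ i₀).conj (hGiso hg)
    rwa [hi₀, hge] at h
  refine ⟨⟨hB.decomp, fun i v hv hv0 => ?_, fun i j hij u hu v hv => ?_⟩, fun i j => ?_⟩
  · obtain ⟨z, hz⟩ : ∃ z, polarBilin Q v z ≠ 0 := by
      by_contra hh
      push Not at hh
      exact hv0 (hN.1 v hh)
    have hev := (mem_img_idem (hB.idem i)).mp hv
    have hne : polarBilin Q v (e i *ᵥ z) ≠ 0 := by rw [← hself i v z, hev]; exact hz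
    refine ⟨⟨e i *ᵥ z, ⟨z, Matrix.toLin'_apply _ _⟩, ?_⟩, e i *ᵥ z, ⟨z, Matrix.toLin'_apply _ _⟩, ?_⟩
    · rw [QuadraticMap.polar_comm, ← polarBilin_apply_apply]; exact hne
    · rwa [← polarBilin_apply_apply]
  · rw [← polarBilin_apply_apply, ← (mem_img_idem (hB.idem i)).mp hu, ← (mem_img_idem (hB.idem j)).mp hv,
      hself i, Matrix.mulVec_mulVec, hB.orth i j hij, Matrix.zero_mulVec, map_zero]
  · obtain ⟨g, hg, hge⟩ := hB.trans i j
    have hinjg : Function.Injective (Matrix.toLin' (g : MM)) := fun a b hab => by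
      simp only [Matrix.toLin'_apply] at hab
      exact Matrix.mulVec_injective_iff_isUnit.mpr g.isUnit hab
    let E := (Submodule.equivMapOfInjective _ hinjg (img (e i))).trans
      (LinearEquiv.ofEq _ _ (by rw [map_img_conj, hge]))
    refine ⟨E, fun v => ?_⟩
    show Q (Matrix.toLin' (g : MM) (v : ι → F)) = Q v
    rw [Matrix.toLin'_apply, Orth.iso_quad (hGiso hg)]

end Cfsg.Agent.Lib.OrthNine.Adjoint
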