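import Cfsg.Agent.Lib.MaxTensor.Homogeneous
import Cfsg.Agent.Lib.OrthNine.Adjoint

/-!
Three copies of an absolutely irreducible orthogonal three-dimensional module inside a nine-dimensional
orthogonal space: an orthonormal tensor square, stabilised by whoever normalises or centralises the group.
-/

set_option autoImplicit false
set_option linter.unusedSectionVars false
set_option linter.style.haveILetI false

namespace Cfsg.Agent.Lib.OrthNine.Tensor

open Matrix Module QuadraticMap Cfsg.Agent.Lib.MaxSub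
open Cfsg.Agent.Lib.MaxTensor (assemble normalizer_le_tensor_coord)
open Cfsg.Agent.Lib.Geometry (quad_polar_comm quad_polar_self)
open scoped MatrixGroups Matrix Kronecker

attribute [-simp] QuadraticMap.polarBilin_apply_apply

variable {F : Type*} [Field F]

theorem exists_two_squares [Fintype F] (h2 : (2 : F) ≠ 0) (t : F) : ∃ x y : F, x ^ 2 + y ^ 2 = t := by
  have hodd : Fintype.card F % 2 = 1 := FiniteField.odd_card_of_char_ne_two fun h => h2 (by
    haveI := ringChar.of_eq h
    exact CharTwo.two_eq_zero)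
  obtain ⟨x, y, hxy⟩ := FiniteField.exists_root_sum_quadratic (R := F)
    (f := Polynomial.X ^ 2 - Polynomial.C t) (g := Polynomial.X ^ 2)
    (by rw [Polynomial.degree_X_pow_sub_C (by norm_num)]; rfl) (by rw [Polynomial.degree_X_pow]; rfl) hodd
  refine ⟨x, y, ?_⟩
  simp only [Polynomial.eval_sub, Polynomial.eval_pow, Polynomial.eval_X, Polynomial.eval_C] at hxy
  linear_combination hxy

/-- A non-singular symmetric form in three variables is similar to the sum of squares. -/
theorem exists_scalar_frame [Fintype F] (h2 : (2 : F) ≠ 0) (β : Matrix (Fin 3) (Fin 3) F) (hs : βᵀ = β)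
    (hd : β.det ≠ 0) : ∃ (R : Matrix (Fin 3) (Fin 3) F) (a : F), a ≠ 0 ∧ R.det ≠ 0 ∧ Rᵀ * β * R = a • 1 := by
  classical
  haveI : Invertible (2 : F) := invertibleOfNonzero h2
  set B := Matrix.toBilin' β
  have hB : ∀ u v : Fin 3 → F, B u v = u ⬝ᵥ β *ᵥ v := fun u v => Matrix.toBilin'_apply' β u v
  have hsym : ∀ u v : Fin 3 → F, B u v = B v u := fun u v => by
    rw [hB, hB, Matrix.dotProduct_mulVec, ← Matrix.mulVec_transpose, hs, dotProduct_comm]
  obtain ⟨b, hb⟩ := LinearMap.BilinForm.exists_orthogonal_basis (V := Fin 3 → F) (K := F) (B := B)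
    (LinearMap.isSymm_def.mpr fun u v => hsym u v)
  let b' : Basis (Fin 3) F (Fin 3 → F) := b.reindex (finCongr (by simp))
  have horth : ∀ i j, i ≠ j → B (b' i) (b' j) = 0 := fun i j hij => by
    simp only [b', Basis.reindex_apply]
    exact hb (fun h => hij ((finCongr _).symm.injective h))
  have hne : ∀ i, B (b' i) (b' i) ≠ 0 := by
    intro i h0
    have hall : ∀ v, B (b' i) v = 0 := fun v => by
      rw [← b'.sum_repr v, map_sum]
      refine Finset.sum_eq_zero fun j _ => ?_
      rw [map_smul]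
      by_cases hij : i = j
      · subst hij; rw [h0, smul_zero]
      · rw [horth i j hij, smul_zero]
    have hz : β *ᵥ b' i = 0 := funext fun j => by
      have := hall (Pi.single j 1)
      rw [hsym, hB, single_one_dotProduct] at this
      exact this
    exact b'.ne_zero i (Matrix.mulVec_injective_iff_isUnit.mpr ((Matrix.isUnit_iff_isUnit_det β).mpr hd.isUnit)
      (hz.trans (Matrix.mulVec_zero _).symm))
  -- two of the three values lie in one class
  obtain ⟨i, j, k, hij, hik, hjk, hsq⟩ : ∃ i j k : Fin 3, i ≠ j ∧ i ≠ k ∧ j ≠ k ∧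
      IsSquare (B (b' i) (b' i) / B (b' j) (b' j)) := by
    by_cases h01 : IsSquare (B (b' 0) (b' 0) / B (b' 1) (b' 1))
    · exact ⟨0, 1, 2, by decide, by decide, by decide, h01⟩
    by_cases h12 : IsSquare (B (b' 1) (b' 1) / B (b' 2) (b' 2))
    · exact ⟨1, 2, 0, by decide, by decide, by decide, h12⟩
    refine ⟨0, 2, 1, by decide, by decide, by decide, ?_⟩
    have hchar : ringChar F ≠ 2 := fun h => h2 (by
      haveI := ringChar.of_eq h
      exact CharTwo.two_eq_zero)
    rw [← quadraticChar_neg_one_iff_not_isSquare] at h01 h12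
    have h := (map_mul (quadraticChar F) _ _).trans (congrArg₂ (· * ·) h01 h12)
    rw [div_mul_div_cancel₀ (hne 1)] at h
    exact (quadraticChar_one_iff_isSquare (div_ne_zero (hne 0) (hne 2))).mp (by simpa using h)
  obtain ⟨s, hs'⟩ := hsq
  set c := B (b' k) (b' k)
  obtain ⟨x, y, hxy⟩ := exists_two_squares h2 (c / B (b' i) (b' i))
  set p := b' i
  set q := s • b' j
  have hpp : B q q = B p p := by
    simp only [q, map_smul, LinearMap.smul_apply, smul_eq_mul]
    rw [← mul_assoc, ← hs', div_mul_cancel₀ _ (hne j)]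
  have hpq : B p q = 0 := by simp only [p, q, map_smul, horth i j hij, smul_zero]
  have hqp : B q p = 0 := by rw [hsym, hpq]
  have hpk : B p (b' k) = 0 := horth i k hik
  have hqk : B q (b' k) = 0 := by simp only [q, map_smul, LinearMap.smul_apply, horth j k hjk, smul_zero]
  have hkp : B (b' k) p = 0 := by rw [hsym, hpk]
  have hkq : B (b' k) q = 0 := by rw [hsym, hqk]
  let col : Fin 3 → (Fin 3 → F) := ![x • p + y • q, (-y) • p + x • q, b' k]
  have hxy' : (x ^ 2 + y ^ 2) * B p p = c := by rw [hxy, div_mul_cancel₀ _ (hne i)]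
  have hcol : ∀ l m, B (col l) (col m) = if l = m then c else 0 := by
    intro l m
    fin_cases l <;> fin_cases m <;>
      simp [col, hpp, hpq, hqp, hpk, hqk, hkp, hkq] <;>
      first
        | rfl
        | linear_combination hxy'
        | ring
  let R : Matrix (Fin 3) (Fin 3) F := Matrix.of fun r l => col l r
  have hR : Rᵀ * β * R = c • 1 := by
    ext l m
    have h1 : (Rᵀ * β * R) l m = B (col l) (col m) := by
      rw [hB, Matrix.dotProduct_mulVec]
      simp [Matrix.mul_apply, Matrix.vecMul, dotProduct, R]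
    rw [h1, hcol, Matrix.smul_apply, Matrix.one_apply, smul_eq_mul, mul_ite, mul_one, mul_zero]
  refine ⟨R, c, hne k, fun h0 => ?_, hR⟩
  have := congrArg Matrix.det hR
  rw [Matrix.det_mul, Matrix.det_mul, h0, mul_zero, Matrix.det_smul, Matrix.det_one, mul_one] at this
  exact pow_ne_zero _ (hne k) this.symm

variable {ι : Type} [Fintype ι] [DecidableEq ι] {Q : QuadraticForm F (ι → F)}
  (hN : (polarBilin Q).Nondegenerate)

local notation "MM" => Matrix ι ι F

/-- Copies of the module with an orthonormal tensor Gram matrix. -/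
structure Frame (Q : QuadraticForm F (ι → F)) (K : Subgroup (GL ι F)) where
  A : K → Matrix (Fin 3) (Fin 3) F
  φ : Fin 3 → (Fin 3 → F) →ₗ[F] (ι → F)
  a : F
  a_ne : a ≠ 0
  irr : ∀ U : Submodule F (Fin 3 → F), (∀ n, ∀ u ∈ U, A n *ᵥ u ∈ U) → U = ⊥ ∨ U = ⊤
  scal : ∀ X : Matrix (Fin 3) (Fin 3) F, (∀ n, X * A n = A n * X) → ∃ c : F, X = c • 1
  equiv : ∀ j (n : K) x, ((n : GL ι F) : MM) *ᵥ φ j x = φ j (A n *ᵥ x)
  bij : Function.Bijective (assemble φ)
  gram : ∀ i j x y, polarBilin Q (φ i x) (φ j y) = if i = j then a * (x ⬝ᵥ y) else 0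

include hN in
/-- Three copies can be made orthonormal. -/
theorem exists_frame [Fintype F] (h2 : (2 : F) ≠ 0) (hn : Fintype.card ι = 9) {K : Subgroup (GL ι F)}
    (hiso : K ≤ Cfsg.isometryGroup F ⇑Q) (A : K → Matrix (Fin 3) (Fin 3) F)
    (φ : Fin 3 → (Fin 3 → F) →ₗ[F] (ι → F))
    (hirr : ∀ U : Submodule F (Fin 3 → F), (∀ n, ∀ u ∈ U, A n *ᵥ u ∈ U) → U = ⊥ ∨ U = ⊤)
    (hscal : ∀ X : Matrix (Fin 3) (Fin 3) F, (∀ n, X * A n = A n * X) → ∃ c : F, X = c • 1)
    (hequiv : ∀ j (n : K) x, ((n : GL ι F) : MM) *ᵥ φ j x = φ j (A n *ᵥ x))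
    (hbij : Function.Bijective (assemble φ)) : Nonempty (Frame Q K) := by
  classical
  let β : Fin 3 → Fin 3 → Matrix (Fin 3) (Fin 3) F := fun i j =>
    Matrix.of fun l m => polarBilin Q (φ i (Pi.single l 1)) (φ j (Pi.single m 1))
  have hval : ∀ i j x y, polarBilin Q (φ i x) (φ j y) = x ⬝ᵥ β i j *ᵥ y := by
    intro i j x y
    conv_lhs => rw [pi_eq_sum_univ' x, pi_eq_sum_univ' y]
    simp only [map_sum, map_smul, LinearMap.sum_apply, LinearMap.smul_apply, smul_eq_mul, dotProduct, Matrix.mulVec,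
      Finset.mul_sum, β, Matrix.of_apply]
    rw [Finset.sum_comm]
    exact Finset.sum_congr rfl fun l _ => Finset.sum_congr rfl fun m _ => by ring
  have hinv : ∀ i j (n : K), (A n)ᵀ * β i j * A n = β i j := by
    intro i j n
    ext l m
    have h := Orth.iso_polar (hiso n.2) (φ i (Pi.single l 1)) (φ j (Pi.single m 1))
    rw [hequiv, hequiv, hval, Matrix.mulVec_mulVec, Matrix.mulVec_single_one, Matrix.mulVec_single_one] at h
    have e : β i j l m = polarBilin Q (φ i (Pi.single l 1)) (φ j (Pi.single m 1)) := rfl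
    rw [e, ← h, Matrix.mul_assoc, Matrix.mul_apply]
    simp [dotProduct, Matrix.col]
  have hβT : ∀ i j, β j i = (β i j)ᵀ := fun i j => by
    ext l m
    simp only [β, Matrix.of_apply, Matrix.transpose_apply]
    exact quad_polar_comm Q _ _
  obtain ⟨i₀, j₀, hne⟩ : ∃ i j, β i j ≠ 0 := by
    by_contra hc
    push Not at hc
    obtain ⟨v, hv⟩ := hbij.2 (φ 0 (Pi.single 0 1))
    have hall : ∀ z, polarBilin Q (φ 0 (Pi.single 0 1)) z = 0 := fun z => by
      obtain ⟨w, rfl⟩ := hbij.2 z
      simp [assemble, map_sum, hval, hc]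
    have h0 := hN.1 _ hall
    have hs : assemble φ (Pi.single 0 (Pi.single 0 1)) = assemble φ 0 := by
      rw [map_zero]
      simp only [assemble, LinearMap.coe_mk, AddHom.coe_mk]
      rw [Finset.sum_eq_single 0 (fun l _ hl => by rw [Pi.single_eq_of_ne hl, map_zero])
        (fun h => absurd (Finset.mem_univ _) h), Pi.single_eq_same, h0]
    have := congrFun (congrFun (hbij.1 hs) 0) 0
    simp at this
  set β₀ := β i₀ j₀ with hβ₀
  have hβ₀u : β₀.det ≠ 0 := by
    have hker : LinearMap.ker (Matrix.toLin' β₀) = ⊥ := by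
      refine (hirr _ fun n u hu => ?_).resolve_right fun htop => hne (Matrix.toLin'.injective (by
        rw [LinearMap.ker_eq_top.mp htop, map_zero]))
      rw [LinearMap.mem_ker, Matrix.toLin'_apply] at hu ⊢
      refine funext fun l => ?_
      -- pair against the image of the invertible `A n`
      have hunit : (A n)ᵀ.det ≠ 0 := by
        have hinjA : Function.Injective (A n).mulVec := by
          intro x y hxy
          have hφ : φ 0 x = φ 0 y := by
            have h1 := hequiv 0 n x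
            have h3 := hequiv 0 n y
            rw [hxy, ← h3] at h1
            exact Matrix.mulVec_injective_iff_isUnit.mpr (n : GL ι F).isUnit h1
          have hs : ∀ z, assemble φ (Pi.single 0 z) = φ 0 z := fun z => by
            simp only [assemble, LinearMap.coe_mk, AddHom.coe_mk]
            rw [Finset.sum_eq_single 0 (fun l _ hl => by rw [Pi.single_eq_of_ne hl, map_zero])
              (fun h => absurd (Finset.mem_univ _) h), Pi.single_eq_same]
          exact Pi.single_injective (M := fun _ => Fin 3 → F) 0 (hbij.1 (by rw [hs, hs, hφ]))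
        rw [Matrix.det_transpose]
        exact ((Matrix.isUnit_iff_isUnit_det _).mp (Matrix.mulVec_injective_iff_isUnit.mp hinjA)).ne_zero
      have h1 : (A n)ᵀ *ᵥ (β₀ *ᵥ (A n *ᵥ u)) = 0 := by
        rw [Matrix.mulVec_mulVec, Matrix.mulVec_mulVec, hinv, hu]
      exact congrFun (Matrix.mulVec_injective_iff_isUnit.mpr ((Matrix.isUnit_iff_isUnit_det _).mpr hunit.isUnit)
        (h1.trans (Matrix.mulVec_zero _).symm)) l
    intro h0
    obtain ⟨v, hv0, hv⟩ := Matrix.exists_mulVec_eq_zero_iff.mpr h0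
    exact hv0 ((Submodule.eq_bot_iff _).mp hker v (by rw [LinearMap.mem_ker, Matrix.toLin'_apply, hv]))
  have hAdet : ∀ n, (A n).det ≠ 0 := fun n h0 => by
    have h := congrArg Matrix.det (hinv i₀ j₀ n)
    rw [Matrix.det_mul, Matrix.det_mul, h0, mul_zero] at h
    exact hβ₀u h.symm
  have hschur : ∀ X : Matrix (Fin 3) (Fin 3) F, (∀ n, (A n)ᵀ * X * A n = X) → ∃ c : F, X = c • β₀ := by
    intro X hX
    obtain ⟨c, hc⟩ := hscal (β₀⁻¹ * X) fun n => by
      have hu : IsUnit (A n)ᵀ.det := by rw [Matrix.det_transpose]; exact (hAdet n).isUnit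
      have e1 : X * A n = ((A n)ᵀ)⁻¹ * X := by
        conv_rhs => rw [← hX n, Matrix.mul_assoc, Matrix.nonsing_inv_mul_cancel_left _ _ hu]
      have e2 : β₀ * A n = ((A n)ᵀ)⁻¹ * β₀ := by
        have h0 : (A n)ᵀ * β₀ * A n = β₀ := hinv i₀ j₀ n
        conv_rhs => arg 2; rw [← h0]
        rw [Matrix.mul_assoc, Matrix.nonsing_inv_mul_cancel_left _ _ hu]
      have e3 : A n * β₀⁻¹ = β₀⁻¹ * ((A n)ᵀ)⁻¹ := by
        have := congrArg (fun M => β₀⁻¹ * M * β₀⁻¹) e2
        simpa only [Matrix.nonsing_inv_mul_cancel_left _ _ hβ₀u.isUnit, ← Matrix.mul_assoc,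
          Matrix.mul_nonsing_inv_cancel_right _ _ hβ₀u.isUnit, Matrix.nonsing_inv_mul _ hβ₀u.isUnit,
          Matrix.one_mul] using this
      rw [Matrix.mul_assoc, e1, ← Matrix.mul_assoc, ← Matrix.mul_assoc, e3]
    refine ⟨c, ?_⟩
    have := congrArg (fun M => β₀ * M) hc
    simpa only [Matrix.mul_nonsing_inv_cancel_left _ _ hβ₀u.isUnit, Matrix.mul_smul, Matrix.mul_one] using this
  choose C hC using fun i j => hschur (β i j) (hinv i j)
  have hβsym : β₀ᵀ = β₀ := by
    obtain ⟨c, hc⟩ := hschur β₀ᵀ (fun n => by rw [← hβT]; exact hinv _ _ n)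
    have h1 := congrArg Matrix.transpose hc
    rw [Matrix.transpose_transpose, Matrix.transpose_smul, hc, smul_smul] at h1
    obtain ⟨l, m, hlm⟩ : ∃ l m, β₀ l m ≠ 0 := by
      by_contra hh
      push Not at hh
      exact hne (Matrix.ext hh)
    have hc2 : c * c = 1 := by
      have := congrFun (congrFun h1 l) m
      rw [Matrix.smul_apply, smul_eq_mul] at this
      exact ((mul_eq_right₀ hlm).mp this.symm)
    have hdet := congrArg Matrix.det hc
    rw [Matrix.det_transpose, Matrix.det_smul, Fintype.card_fin] at hdet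
    have hc3 : c ^ 3 = 1 := (mul_eq_right₀ hβ₀u).mp hdet.symm
    have : c = 1 := by linear_combination hc3 - c * hc2
    rw [hc, this, one_smul]
  let Cm : Matrix (Fin 3) (Fin 3) F := Matrix.of C
  have hCsym : Cmᵀ = Cm := by
    ext i j
    obtain ⟨l, m, hlm⟩ : ∃ l m, β₀ l m ≠ 0 := by
      by_contra hh
      push Not at hh
      exact hne (Matrix.ext hh)
    have h := congrFun (congrFun (hβT i j) l) m
    rw [hC j i, hC i j, Matrix.transpose_apply, Matrix.smul_apply, Matrix.smul_apply, smul_eq_mul, smul_eq_mul,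
      show β₀ m l = β₀ l m from congrFun (congrFun hβsym l) m] at h
    exact mul_right_cancel₀ hlm h
  have hCdet : Cm.det ≠ 0 := by
    intro h0
    obtain ⟨v, hv0, hv⟩ := Matrix.exists_mulVec_eq_zero_iff.mpr h0
    obtain ⟨j, hj⟩ := Function.ne_iff.mp hv0
    let w : Fin 3 → Fin 3 → F := fun j => v j • Pi.single 0 1
    have hzero : assemble φ w = 0 := hN.2 _ fun z => by
      obtain ⟨u, rfl⟩ := hbij.2 z
      show polarBilin Q (assemble φ u) (assemble φ w) = 0
      simp only [assemble, LinearMap.coe_mk, AddHom.coe_mk, map_sum, LinearMap.sum_apply, hval, hC,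
        Matrix.smul_mulVec, dotProduct_smul, w, Matrix.mulVec_smul, smul_eq_mul]
      rw [Finset.sum_comm]
      refine Finset.sum_eq_zero fun i _ => ?_
      have hsum : ∑ j, C i j * v j = 0 := congrFun hv i
      calc ∑ j, v j * (C i j * u i ⬝ᵥ β₀ *ᵥ Pi.single 0 1)
          = (∑ j, C i j * v j) * u i ⬝ᵥ β₀ *ᵥ Pi.single 0 1 := by
            rw [Finset.sum_mul]; exact Finset.sum_congr rfl fun j _ => by ring
        _ = 0 := by rw [hsum, zero_mul]
    have := congrFun (congrFun (hbij.1 (hzero.trans (map_zero _).symm)) j) 0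
    simp [w] at this
    exact hj this
  obtain ⟨R₁, a₁, ha₁, hR₁, hg₁⟩ := exists_scalar_frame h2 β₀ hβsym hβ₀u
  obtain ⟨R₂, a₂, ha₂, hR₂, hg₂⟩ := exists_scalar_frame h2 Cm hCsym hCdet
  let φ' : Fin 3 → (Fin 3 → F) →ₗ[F] (ι → F) := fun l =>
    (∑ j, R₂ j l • φ j).comp (Matrix.toLin' R₁)
  have hφ' : ∀ l x, φ' l x = ∑ j, R₂ j l • φ j (R₁ *ᵥ x) := fun l x => by
    simp [φ', LinearMap.sum_apply]
  let A' : K → Matrix (Fin 3) (Fin 3) F := fun n => R₁⁻¹ * A n * R₁
  have hu₁ : IsUnit R₁.det := hR₁.isUnit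
  have hRA : ∀ n x, R₁ *ᵥ (A' n *ᵥ x) = A n *ᵥ (R₁ *ᵥ x) := fun n x => by
    rw [Matrix.mulVec_mulVec, Matrix.mulVec_mulVec, show A' n = R₁⁻¹ * (A n * R₁) from Matrix.mul_assoc _ _ _,
      Matrix.mul_nonsing_inv_cancel_left _ _ hu₁]
  have hgram : ∀ l m x y, polarBilin Q (φ' l x) (φ' m y) = if l = m then a₂ * a₁ * (x ⬝ᵥ y) else 0 := by
    intro l m x y
    have h1 : R₁ *ᵥ x ⬝ᵥ β₀ *ᵥ (R₁ *ᵥ y) = a₁ * (x ⬝ᵥ y) := by
      rw [← Matrix.vecMul_transpose, ← Matrix.dotProduct_mulVec, Matrix.mulVec_mulVec, Matrix.mulVec_mulVec,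
        hg₁, Matrix.smul_mulVec, Matrix.one_mulVec, dotProduct_smul, smul_eq_mul]
    have h3 := congrFun (congrFun hg₂ l) m
    rw [Matrix.mul_assoc, Matrix.mul_apply] at h3
    simp only [Matrix.transpose_apply, Matrix.mul_apply, Finset.mul_sum, Matrix.smul_apply, smul_eq_mul,
      Matrix.one_apply, mul_ite, mul_one, mul_zero] at h3
    simp only [hφ', map_sum, map_smul, LinearMap.sum_apply, LinearMap.smul_apply, hval, hC, Matrix.smul_mulVec,
      dotProduct_smul, h1, smul_eq_mul, Finset.mul_sum]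
    rw [Finset.sum_comm]
    calc _ = (∑ i, ∑ j, R₂ i l * (Cm i j * R₂ j m)) * (a₁ * (x ⬝ᵥ y)) := by
          rw [Finset.sum_mul]
          refine Finset.sum_congr rfl fun i _ => ?_
          rw [Finset.sum_mul]
          exact Finset.sum_congr rfl fun j _ => by simp only [Cm, Matrix.of_apply]; ring
      _ = _ := by
          rw [h3, ite_mul, zero_mul]
          simp only [mul_assoc]
  have hinj' : Function.Injective (assemble φ') := (injective_iff_map_eq_zero _).mpr fun v hv => by
    funext m i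
    have h := congrArg (fun z => polarBilin Q z (φ' m (Pi.single i 1))) hv
    simp only [assemble, LinearMap.coe_mk, AddHom.coe_mk, map_sum, LinearMap.sum_apply, hgram,
      Finset.sum_ite_eq', Finset.mem_univ, if_true, dotProduct_single, mul_one, map_zero,
      LinearMap.zero_apply] at h
    exact (mul_eq_zero.mp h).resolve_left (mul_ne_zero ha₂ ha₁)
  refine ⟨⟨A', φ', a₂ * a₁, mul_ne_zero ha₂ ha₁, fun U hU => ?_, fun X hX => ?_, fun l n x => ?_,
    ⟨hinj', (LinearMap.injective_iff_surjective_of_finrank_eq_finrank ?_).mp hinj'⟩, hgram⟩⟩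
  · rcases hirr (U.map (Matrix.toLin' R₁)) (fun n u hu => by
        obtain ⟨z, hz, rfl⟩ := hu
        exact ⟨A' n *ᵥ z, hU n z hz, by rw [Matrix.toLin'_apply, Matrix.toLin'_apply, hRA]⟩) with h | h
    · refine Or.inl (Submodule.map_injective_of_injective (f := Matrix.toLin' R₁) ?_ (by rw [h, Submodule.map_bot]))
      intro x y hxy
      simp only [Matrix.toLin'_apply] at hxy
      exact Matrix.mulVec_injective_iff_isUnit.mpr ((Matrix.isUnit_iff_isUnit_det _).mpr hu₁) hxy
    · refine Or.inr (eq_top_iff.mpr fun z _ => ?_)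
      obtain ⟨w, hw, hwz⟩ : R₁ *ᵥ z ∈ U.map (Matrix.toLin' R₁) := h ▸ trivial
      rw [Matrix.toLin'_apply] at hwz
      exact Matrix.mulVec_injective_iff_isUnit.mpr ((Matrix.isUnit_iff_isUnit_det _).mpr hu₁) hwz ▸ hw
  · obtain ⟨c, hc⟩ := hscal (R₁ * X * R₁⁻¹) fun n => by
      have := congrArg (fun M => R₁ * M * R₁⁻¹) (hX n)
      simpa only [A', Matrix.mul_assoc, Matrix.mul_nonsing_inv_cancel_left _ _ hu₁,
        Matrix.mul_nonsing_inv _ hu₁, Matrix.mul_one] using this
    refine ⟨c, ?_⟩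
    have := congrArg (fun M => R₁⁻¹ * M * R₁) hc
    simpa only [Matrix.mul_assoc, Matrix.nonsing_inv_mul_cancel_left _ _ hu₁, Matrix.nonsing_inv_mul _ hu₁,
      Matrix.mul_one, Matrix.smul_mul, Matrix.mul_smul, Matrix.one_mul] using this
  · simp only [hφ', Matrix.mulVec_sum, Matrix.mulVec_smul, hequiv, hRA]
  · simp [Module.finrank_fintype_fun_eq_card, Module.finrank_pi_fintype, hn]

variable {K : Subgroup (GL ι F)}

theorem Frame.assemble_apply (Φ : Frame Q K) (v : Fin 3 → Fin 3 → F) : assemble Φ.φ v = ∑ j, Φ.φ j (v j) := rfl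

theorem Frame.gram_assemble (Φ : Frame Q K) (v w : Fin 3 → Fin 3 → F) :
    polarBilin Q (assemble Φ.φ v) (assemble Φ.φ w) = Φ.a * ∑ j, v j ⬝ᵥ w j := by
  simp only [Frame.assemble_apply, map_sum, LinearMap.sum_apply, Φ.gram, Finset.sum_ite_eq', Finset.mem_univ,
    if_true, Finset.mul_sum]

/-- The group normalising or centralising the module stabilises the tensor square. -/
theorem Frame.wreath [Fintype F] (Φ : Frame Q K) (H : Subgroup (GL ι F))
    (hH : ∀ h ∈ H, (∀ x ∈ K, h * x * h⁻¹ ∈ K) ∨ (∀ x ∈ K, ∀ y ∈ K, h * x * h⁻¹ * y = y * (h * x * h⁻¹))) :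
    ∃ (e : ι ≃ (Fin 2 → Fin 3)) (P : GL ι F) (f₁ : (Fin 3 → F) → (Fin 3 → F) → F),
      Cfsg.Geo.IsSymmetricForm f₁ ∧
      Cfsg.Geo.IsTensorPowerFormStructure id (QuadraticMap.polar ⇑Q) f₁ e P ∧
      H ≤ Cfsg.Geo.tensorWreathSubgroup 3 2 e P := by
  classical
  let W := Fin 3 → Fin 3 → F
  let E : W ≃ₗ[F] (ι → F) := LinearEquiv.ofBijective _ Φ.bij
  have hE : ∀ v, E v = assemble Φ.φ v := fun v => rfl
  let toM : (W →ₗ[F] W) →ₗ[F] MM :=
    LinearMap.toMatrix'.toLinearMap ∘ₗ (E.conj).toLinearMap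
  have htoM : ∀ (T : W →ₗ[F] W) v, toM T *ᵥ E v = E (T v) := fun T v => by
    rw [← Matrix.toLin'_apply (toM T)]
    simp [toM, LinearEquiv.conj_apply]
  have hext : ∀ X Y : MM, (∀ v, X *ᵥ E v = Y *ᵥ E v) → X = Y := fun X Y h =>
    Matrix.ext_of_mulVec_single fun i => by
      obtain ⟨v, hv⟩ := E.surjective (Pi.single i 1)
      rw [← hv]; exact h v
  let L1 : Matrix (Fin 3) (Fin 3) F →ₗ[F] MM :=
    { toFun := fun M => toM (LinearMap.pi fun j => Matrix.toLin' M ∘ₗ LinearMap.proj j)
      map_add' := fun M M' => hext _ _ fun v => by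
        rw [htoM, Matrix.add_mulVec, htoM, htoM, ← map_add]
        congr 1; funext j; simp only [map_add]; rfl
      map_smul' := fun c M => hext _ _ fun v => by
        rw [htoM, RingHom.id_apply, Matrix.smul_mulVec, htoM, ← map_smul]
        congr 1; funext j; simp only [map_smul]; rfl }
  let L2 : Matrix (Fin 3) (Fin 3) F →ₗ[F] MM :=
    { toFun := fun c => toM (LinearMap.pi fun l => ∑ j, c l j • LinearMap.proj j)
      map_add' := fun M M' => hext _ _ fun v => by
        rw [htoM, Matrix.add_mulVec, htoM, htoM, ← map_add]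
        congr 1; funext l; simp only [Matrix.add_apply, add_smul, Finset.sum_add_distrib]; rfl
      map_smul' := fun c M => hext _ _ fun v => by
        rw [htoM, RingHom.id_apply, Matrix.smul_mulVec, htoM, ← map_smul]
        congr 1; funext l; simp only [Matrix.smul_apply, smul_eq_mul, ← smul_smul, ← Finset.smul_sum]; rfl }
  have hL1 : ∀ M v, L1 M *ᵥ E v = E (fun j => M *ᵥ v j) := fun M v => by
    show toM _ *ᵥ E v = _
    rw [htoM]; congr 1
  have hL2 : ∀ c v, L2 c *ᵥ E v = E (fun l => ∑ j, c l j • v j) := fun c v => by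
    show toM _ *ᵥ E v = _
    rw [htoM]; congr 1
  have h12 : ∀ M c, L1 M * L2 c = L2 c * L1 M := fun M c => hext _ _ fun v => by
    rw [← Matrix.mulVec_mulVec, ← Matrix.mulVec_mulVec, hL1, hL2, hL1, hL2]
    congr 1; funext l; simp [Matrix.mulVec_sum, Matrix.mulVec_smul]
  have hinj1 : Function.Injective L1 := fun M M' h => Matrix.ext_of_mulVec_single fun i => by
    have := congrArg (· *ᵥ E (fun _ => Pi.single i 1)) h
    simp only [hL1] at this
    exact congrFun (E.injective this) 0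
  have hinj2 : Function.Injective L2 := fun c c' h => by
    ext l j
    have := congrArg (· *ᵥ E (Pi.single j (Pi.single 0 1))) h
    simp only [hL2] at this
    have h' := congrFun (congrFun (E.injective this) l) 0
    simpa [Finset.sum_apply, Pi.single_apply, Finset.sum_ite_eq', apply_ite (fun x : Fin 3 → F => x 0)] using h'
  have hK : ∀ (n : K), ((n : GL ι F) : MM) = L1 (Φ.A n) := fun n => hext _ _ fun v => by
    rw [hL1, hE, hE, Frame.assemble_apply, Matrix.mulVec_sum, Frame.assemble_apply]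
    simp [Φ.equiv]
  -- the commutant
  have hcomm : ∀ X : MM, (∀ n : K, ((n : GL ι F) : MM) * X = X * ((n : GL ι F) : MM)) → ∃ c, X = L2 c := by
    intro X hX
    let T : W →ₗ[F] W := E.symm.toLinearMap ∘ₗ Matrix.toLin' X ∘ₗ E.toLinearMap
    have hT : ∀ v, E (T v) = X *ᵥ E v := fun v => by simp [T, Matrix.toLin'_apply]
    have hTn : ∀ (n : K) v, T (fun j => Φ.A n *ᵥ v j) = fun j => Φ.A n *ᵥ T v j := fun n v => E.injective (by
      rw [hT, ← hL1, ← hL1, hT, Matrix.mulVec_mulVec, Matrix.mulVec_mulVec, ← hK, hX])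
    let B : Fin 3 → Fin 3 → Matrix (Fin 3) (Fin 3) F := fun l j =>
      LinearMap.toMatrix' (LinearMap.proj l ∘ₗ T ∘ₗ LinearMap.single F (fun _ => Fin 3 → F) j)
    have hB : ∀ l j x, B l j *ᵥ x = T (Pi.single j x) l := fun l j x => by
      rw [← Matrix.toLin'_apply, Matrix.toLin'_toMatrix']; rfl
    have hBs : ∀ l j, ∃ c : F, B l j = c • 1 := fun l j => Φ.scal _ fun n => by
      refine Matrix.ext_of_mulVec_single fun i => ?_
      rw [← Matrix.mulVec_mulVec, ← Matrix.mulVec_mulVec, hB, hB]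
      have hsingle : (fun k => Φ.A n *ᵥ (Pi.single j (Pi.single i 1) : W) k) = Pi.single j (Φ.A n *ᵥ Pi.single i 1) := by
        funext k
        by_cases hk : k = j
        · subst hk; simp
        · simp [hk]
      rw [← hsingle, hTn]
    choose c hc using hBs
    refine ⟨Matrix.of c, hext _ _ fun v => ?_⟩
    rw [hL2, ← hT]
    congr 1
    funext l
    conv_lhs => rw [← Finset.univ_sum_single v, map_sum, Finset.sum_apply]
    refine Finset.sum_congr rfl fun j _ => ?_
    rw [← hB, hc, Matrix.smul_mulVec, Matrix.one_mulVec]; rfl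
  -- the group of units acting on the first factor
  let G1 : Subgroup (GL ι F) :=
    { carrier := {g | ∀ c, (g : MM) * L2 c = L2 c * (g : MM)}
      mul_mem' := fun {a b} ha hb c => by
        rw [Units.val_mul, mul_assoc, hb, ← mul_assoc, ha, mul_assoc]
      one_mem' := fun c => by simp
      inv_mem' := fun {a} ha c => by
        have := congrArg (fun X => ((a⁻¹ : GL ι F) : MM) * X * ((a⁻¹ : GL ι F) : MM)) (ha c)
        simp only [← mul_assoc, Units.inv_mul, one_mul] at this
        rw [mul_assoc _ (a : MM), Units.mul_inv, mul_one] at this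
        exact this.symm }
  have hG1 : ∀ g : G1, ∃ M, ((g : GL ι F) : MM) = L1 M := by
    intro g
    let T : W →ₗ[F] W := E.symm.toLinearMap ∘ₗ Matrix.toLin' ((g : GL ι F) : MM) ∘ₗ E.toLinearMap
    have hT : ∀ v, E (T v) = ((g : GL ι F) : MM) *ᵥ E v := fun v => by simp [T, Matrix.toLin'_apply]
    have hTc : ∀ c v, T (fun l => ∑ j, Matrix.of c l j • v j) = fun l => ∑ j, Matrix.of c l j • T v j :=
      fun c v => E.injective (by
        rw [hT, ← hL2, ← hL2, hT, Matrix.mulVec_mulVec, Matrix.mulVec_mulVec, g.2])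
    refine ⟨LinearMap.toMatrix' (LinearMap.proj 0 ∘ₗ T ∘ₗ LinearMap.single F (fun _ => Fin 3 → F) 0),
      hext _ _ fun v => ?_⟩
    rw [hL1, ← hT]
    congr 1
    funext l
    rw [← Matrix.toLin'_apply, Matrix.toLin'_toMatrix']
    simp only [LinearMap.comp_apply]
    -- move copy `l` to copy `0`
    have h1 := congrFun (hTc (fun a b => if a = 0 ∧ b = l then (1 : F) else 0) v) 0
    simp only [Matrix.of_apply, true_and, ite_smul, one_smul, zero_smul, Finset.sum_ite_eq', Finset.mem_univ,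
      if_true] at h1
    rw [← h1]
    refine (congrArg (fun z => T z 0) (?_ : _ = (Pi.single 0 (v l) : W))).trans rfl
    funext a
    by_cases ha : a = 0
    · subst ha; simp
    · simp [ha]
  choose A1 hA1 using hG1
  have hKG1 : ∀ n : K, (n : GL ι F) ∈ G1 := fun n c => by rw [hK]; exact h12 _ _
  have hAK : ∀ n : K, A1 ⟨n, hKG1 n⟩ = Φ.A n := fun n => hinj1 (by rw [← hA1, ← hK])
  obtain ⟨e, P, hP, hnorm⟩ := normalizer_le_tensor_coord (N := G1) (d := 3) (k := 3) A1
    (fun U hU => Φ.irr U fun n u hu => hAK n ▸ hU ⟨n, hKG1 n⟩ u hu)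
    (fun M hM => Φ.scal M fun n => hAK n ▸ hM ⟨n, hKG1 n⟩) Φ.φ
    (fun j g x => by
      have hs : ∀ z, E (Pi.single j z) = Φ.φ j z := fun z => by
        rw [hE, Frame.assemble_apply, Finset.sum_eq_single j (fun l _ hl => by rw [Pi.single_eq_of_ne hl, map_zero])
          (fun h => absurd (Finset.mem_univ _) h), Pi.single_eq_same]
      rw [← hs, hA1, hL1, ← hs]
      congr 1
      funext k
      by_cases hk : k = j
      · subst hk; simp
      · simp [hk]) Φ.bij
  let e' : ι ≃ (Fin 2 → Fin 3) := e.trans (finTwoArrowEquiv (Fin 3)).symm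
  have hP' : ∀ x : (Fin 2 → Fin 3) → F, (P : MM) *ᵥ (x ∘ e') = E (fun j i => x ![i, j]) := fun x => by
    have : x ∘ e' = (fun p : Fin 3 × Fin 3 => x ![p.1, p.2]) ∘ e := by funext r; simp [e']
    rw [this, hP, hE]
  refine ⟨e', P, fun x y => x ⬝ᵥ y, ⟨⟨fun x y v => add_dotProduct x y v, fun c x v => smul_dotProduct c x v,
    fun v x y => dotProduct_add v x y, fun c v x => dotProduct_smul c v x⟩, dotProduct_comm, fun v hv => ?_⟩,
    ⟨Φ.a, Φ.a_ne, fun x y => ?_⟩, fun h hh => ?_⟩
  · obtain ⟨i, hi⟩ := Function.ne_iff.mp hv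
    refine ⟨⟨Pi.single i 1, ?_⟩, ⟨Pi.single i 1, ?_⟩⟩
    · rw [single_one_dotProduct]; exact hi
    · rw [dotProduct_single, mul_one]; exact hi
  · rw [← polarBilin_apply_apply, hP', hP', hE, hE, Φ.gram_assemble]
    congr 1
    have hg : ∀ a b : Fin 3, Cfsg.Geo.gramMatrix (fun x y : Fin 3 → F => x ⬝ᵥ y) a b = if a = b then 1 else 0 :=
      fun a b => by
        show Pi.single a 1 ⬝ᵥ Pi.single b 1 = _
        rw [single_one_dotProduct, Pi.single_apply]
    have hprod : ∀ a b : Fin 2 → Fin 3,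
        (∏ i, Cfsg.Geo.gramMatrix (fun x y : Fin 3 → F => x ⬝ᵥ y) (a i) (b i)) = if a = b then 1 else 0 := by
      intro a b
      simp only [hg]
      rw [Finset.prod_boole]
      simp only [Finset.mem_univ, true_implies, funext_iff]
    simp only [hprod, id, mul_ite, mul_one, mul_zero, ite_mul, zero_mul, Finset.sum_ite_eq, Finset.mem_univ, if_true]
    rw [← (finTwoArrowEquiv (Fin 3)).symm.sum_comp, Fintype.sum_prod_type, Finset.sum_comm]
    simp [dotProduct]
  -- membership
  have hTP : Cfsg.Geo.tensorProductSubgroup 3 3 e P ≤ Cfsg.Geo.tensorWreathSubgroup 3 2 e' P := by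
    rintro _ ⟨_, ⟨z, ⟨a, b, hz⟩, rfl⟩, rfl⟩
    refine ⟨_, ⟨Cfsg.Geo.glReindex (finTwoArrowEquiv (Fin 3)).symm z, Subgroup.subset_closure (Or.inl
      ⟨![a, b], fun x y => ?_⟩), rfl⟩, ?_⟩
    · show (Matrix.reindex (finTwoArrowEquiv (Fin 3)).symm (finTwoArrowEquiv (Fin 3)).symm z.val) x y = _
      rw [hz]
      simp [Fin.prod_univ_two]
    · congr 1
  have hnormal : ∀ g : GL ι F, (∀ c, ∃ c', (g : MM) * L2 c * ((g⁻¹ : GL ι F) : MM) = L2 c') →
      g ∈ Cfsg.Geo.tensorWreathSubgroup 3 2 e' P := by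
    intro g hg
    refine hTP (hnorm g ?_)
    -- conjugation is onto the commutant
    choose π hπ using hg
    have hπinj : Function.Injective π := fun c c' hcc => hinj2 (by
      have := congrArg (fun X => ((g⁻¹ : GL ι F) : MM) * X * (g : MM)) ((hπ c).trans (hcc ▸ (hπ c').symm))
      simpa [mul_assoc] using this)
    have hfix : ∀ y ∈ G1, g * y * g⁻¹ ∈ G1 := by
      intro y hy c
      obtain ⟨c₀, hc₀⟩ := Finite.injective_iff_surjective.mp hπinj c
      rw [← hc₀, ← hπ, Units.val_mul, Units.val_mul]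
      have := congrArg (fun X => (g : MM) * X * ((g⁻¹ : GL ι F) : MM)) (hy c₀)
      simpa [mul_assoc] using this
    have hinjc : Function.Injective fun y : G1 => (⟨g * y * g⁻¹, hfix y y.2⟩ : G1) := fun y y' h =>
      Subtype.ext (mul_left_cancel (mul_right_cancel (congrArg Subtype.val h)))
    refine Subgroup.mem_normalizer_iff.mpr fun y => ⟨fun hy => hfix y hy, fun hy => ?_⟩
    obtain ⟨⟨w, hw⟩, hwe⟩ := Finite.injective_iff_surjective.mp hinjc ⟨_, hy⟩
    exact mul_left_cancel (mul_right_cancel (congrArg Subtype.val hwe)) ▸ hw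
  rcases hH h hh with hcase | hcase
  · refine hnormal h fun c => hcomm _ fun n => ?_
    have hinjK : Function.Injective fun y : K => (⟨h * y * h⁻¹, hcase y y.2⟩ : K) := fun y y' he =>
      Subtype.ext (mul_left_cancel (mul_right_cancel (congrArg Subtype.val he)))
    obtain ⟨m, hm⟩ := Finite.injective_iff_surjective.mp hinjK n
    have hm' : (n : GL ι F) = h * m * h⁻¹ := (congrArg Subtype.val hm).symm
    have := congrArg (fun X => (h : MM) * X * ((h⁻¹ : GL ι F) : MM)) ((hK m).symm ▸ h12 (Φ.A m) c)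
    rw [hm', Units.val_mul, Units.val_mul]
    simpa [mul_assoc] using this
  · -- `h` exchanges the two factors
    have hle : Submodule.map L1 ⊤ ≤ (Submodule.map L2 ⊤).map
        ((LinearMap.mulLeft F (h : MM)).comp (LinearMap.mulRight F ((h⁻¹ : GL ι F) : MM))) := by
      rintro _ ⟨M, -, rfl⟩
      obtain ⟨c, hc⟩ := hcomm (((h⁻¹ : GL ι F) : MM) * L1 M * (h : MM)) fun n => by
        obtain ⟨c, hc⟩ := hcomm ((h * n * h⁻¹ : GL ι F) : MM) fun m => by
          rw [← Units.val_mul, ← Units.val_mul]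
          exact congrArg Units.val (hcase n n.2 m m.2).symm
        have h1 := h12 M c
        rw [← hc, Units.val_mul, Units.val_mul] at h1
        have := congrArg (fun X => ((h⁻¹ : GL ι F) : MM) * X * (h : MM)) h1.symm
        simpa [mul_assoc] using this
      refine ⟨L2 c, ⟨c, trivial, rfl⟩, ?_⟩
      rw [← hc]
      simp [mul_assoc]
    have heq := Submodule.eq_of_le_of_finrank_le hle (by
      refine (Submodule.finrank_map_le _ _).trans ?_
      rw [Submodule.map_top, Submodule.map_top, LinearMap.finrank_range_of_inj hinj1,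
        LinearMap.finrank_range_of_inj hinj2])
    let σ : Equiv.Perm (Fin 2) := Equiv.swap 0 1
    let pm : Matrix (Fin 2 → Fin 3) (Fin 2 → Fin 3) F := Matrix.of fun x y => if y = x ∘ σ then 1 else 0
    have hpm : ∀ x : (Fin 2 → Fin 3) → F, pm *ᵥ x = fun a => x (a ∘ σ) := fun x => by
      funext a; simp [pm, Matrix.mulVec, dotProduct]
    have hpm2 : pm * pm = 1 := Matrix.ext_of_mulVec_single fun i => by
      rw [← Matrix.mulVec_mulVec, hpm, hpm, Matrix.one_mulVec]
      funext a
      show Pi.single i 1 ((a ∘ σ) ∘ σ) = _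
      rw [show (a ∘ σ) ∘ σ = a by funext b; simp [σ]]
    let q : GL (Fin 2 → Fin 3) F := ⟨pm, pm, hpm2, hpm2⟩
    let s : GL ι F := P * Cfsg.Geo.glReindex e'.symm q * P⁻¹
    have hsW : s ∈ Cfsg.Geo.tensorWreathSubgroup 3 2 e' P :=
      ⟨_, ⟨q, Subgroup.subset_closure (Or.inr ⟨σ, fun x y => rfl⟩), rfl⟩, rfl⟩
    have hs : ∀ v : W, (s : MM) *ᵥ E v = E (fun j i => v i j) := by
      intro v
      let x : (Fin 2 → Fin 3) → F := fun a => v (a 1) (a 0)
      have hx : E v = (P : MM) *ᵥ (x ∘ e') := by rw [hP']; congr 1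
      rw [hx, show (s : MM) = (P : MM) * Matrix.reindex e'.symm e'.symm pm * ((P⁻¹ : GL ι F) : MM) from rfl,
        Matrix.mulVec_mulVec, mul_assoc, Units.inv_mul, mul_one, ← Matrix.mulVec_mulVec, Matrix.reindex_apply,
        Equiv.symm_symm, Matrix.submatrix_mulVec_equiv, Function.comp_assoc, Equiv.self_comp_symm,
        Function.comp_id, hP', hpm]
      congr 1
    have hs12 : ∀ M, (s : MM) * L1 M = L2 M * (s : MM) := fun M => hext _ _ fun v => by
      rw [← Matrix.mulVec_mulVec, ← Matrix.mulVec_mulVec, hL1, hs, hs, hL2]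
      congr 1
    have hgoal : s * h ∈ Cfsg.Geo.tensorWreathSubgroup 3 2 e' P := by
      refine hnormal (s * h) fun c => ?_
      obtain ⟨M₁, hX⟩ : ∃ M, L1 M = (h : MM) * L2 c * ((h⁻¹ : GL ι F) : MM) := by
        have : (h : MM) * L2 c * ((h⁻¹ : GL ι F) : MM) ∈ Submodule.map L1 ⊤ := by
          rw [heq]
          exact ⟨L2 c, ⟨c, trivial, rfl⟩, by simp [mul_assoc]⟩
        obtain ⟨M, -, hM⟩ := this
        exact ⟨M, hM⟩
      refine ⟨M₁, ?_⟩
      rw [Units.val_mul, _root_.mul_inv_rev, Units.val_mul]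
      calc (s : MM) * (h : MM) * L2 c * (((h⁻¹ : GL ι F) : MM) * ((s⁻¹ : GL ι F) : MM))
          = (s : MM) * ((h : MM) * L2 c * ((h⁻¹ : GL ι F) : MM)) * ((s⁻¹ : GL ι F) : MM) := by
            simp only [mul_assoc]
        _ = _ := by rw [← hX, hs12, mul_assoc, Units.mul_inv, mul_one]
    have := (Cfsg.Geo.tensorWreathSubgroup 3 2 e' P).mul_mem
      ((Cfsg.Geo.tensorWreathSubgroup 3 2 e' P).inv_mem hsW) hgoal
    rwa [← mul_assoc, inv_mul_cancel, one_mul] at this

end Cfsg.Agent.Lib.OrthNine.Tensor
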