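import Cfsg.Agent.Lib.OrthNine.Lines
import Cfsg.Agent.Lib.TwoPrimeDim.Homogeneous

/-!
A normal subgroup with scalar centre of the commutant in dimension nine: three copies with an orthonormal
frame, or absolutely irreducible. Over three elements a perfect group has no such frame.
-/

set_option autoImplicit false
set_option linter.unusedSectionVars false
set_option linter.style.haveILetI false

namespace Cfsg.Agent.Lib.OrthNine.Homog

open Matrix Module QuadraticMap Cfsg.Agent.Lib.MaxSub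
open Cfsg.Agent.Lib.MaxTensor (assemble)
open Cfsg.Agent.Lib.TwoPrimeDim (centre mem_centre homogeneous)
open scoped MatrixGroups Matrix

attribute [-simp] QuadraticMap.polarBilin_apply_apply

variable {ι : Type} [Fintype ι] [DecidableEq ι] {F : Type*} [Field F] [Fintype F]
  {Q : QuadraticForm F (ι → F)} (hN : (polarBilin Q).Nondegenerate)

local notation "MM" => Matrix ι ι F

theorem assemble_single {d k : ℕ} (φ : Fin k → (Fin d → F) →ₗ[F] (ι → F)) (j : Fin k) (x : Fin d → F) :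
    assemble φ (Pi.single j x) = φ j x := by
  simp only [assemble, LinearMap.coe_mk, AddHom.coe_mk]
  rw [Finset.sum_eq_single j (fun l _ hl => by rw [Pi.single_eq_of_ne hl, map_zero])
    (fun h => absurd (Finset.mem_univ _) h), Pi.single_eq_same]

include hN in
theorem homog_cases (h2 : (2 : F) ≠ 0) (hn : Fintype.card ι = 9) {G K : Subgroup (GL ι F)}
    (hG : Cfsg.Geo.ActsIrreducibly (Cfsg.Geo.matrixSet G)) (hKG : ∀ g ∈ G, ∀ x ∈ K, g * x * g⁻¹ ∈ K)
    (hc : ∀ M ∈ centre K, ∃ c : F, M = c • (1 : MM)) (hiso : K ≤ Cfsg.isometryGroup F ⇑Q)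
    (hs : ∀ x ∈ K, x ∈ Cfsg.Geo.scalars ι F → x = 1) (hK : K ≠ ⊥) :
    Nonempty (Tensor.Frame Q K) ∨ Cfsg.Geo.ActsAbsolutelyIrreducibly (Cfsg.Geo.matrixSet K) := by
  haveI : Nonempty ι := Fintype.card_pos_iff.mp (by omega)
  obtain ⟨d, k, A, φ, hdk, hd, hk, hirr, hscal, heq, hbij⟩ := homogeneous hG hKG hc
  rw [hn] at hdk
  have hd9 : d ∈ Nat.divisors 9 := Nat.mem_divisors.mpr ⟨⟨k, hdk.symm⟩, by norm_num⟩
  rw [show Nat.divisors 9 = {1, 3, 9} from by decide] at hd9
  simp only [Finset.mem_insert, Finset.mem_singleton] at hd9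
  rcases hd9 with rfl | rfl | rfl
  · refine absurd ((Subgroup.eq_bot_iff_forall _).mpr fun x hx => hs x hx ?_) hK
    refine Cfsg.Agent.Lib.KnownA.PrimeDim.mem_scalars_of_matrix (by omega) (c := A ⟨x, hx⟩ 0 0)
      (Cfsg.Agent.Lib.KnownA.PrimeDim.eq_smul_one fun v => ?_)
    obtain ⟨u, rfl⟩ := hbij.2 v
    simp only [assemble, LinearMap.coe_mk, AddHom.coe_mk, Matrix.mulVec_sum, Finset.smul_sum]
    refine Finset.sum_congr rfl fun j _ => ?_
    rw [heq j ⟨x, hx⟩, ← map_smul]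
    congr 1
    funext i
    fin_cases i
    simp [Matrix.mulVec, dotProduct]
  · obtain rfl : k = 3 := by omega
    exact Or.inl (Tensor.exists_frame hN h2 hn hiso A φ hirr hscal heq hbij)
  · obtain rfl : k = 1 := by omega
    right
    have hsurj : Function.Surjective (φ 0) := fun v => by
      obtain ⟨u, rfl⟩ := hbij.2 v
      exact ⟨u 0, by simp [assemble]⟩
    have hinj : Function.Injective (φ 0) := fun x y h =>
      Pi.single_injective (M := fun _ => Fin 9 → F) 0 (hbij.1 (by rw [assemble_single, assemble_single, h]))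
    let E : (Fin 9 → F) ≃ₗ[F] (ι → F) := LinearEquiv.ofBijective (φ 0) ⟨hinj, hsurj⟩
    have hE : ∀ x, E x = φ 0 x := fun x => rfl
    refine ⟨(Cfsg.Agent.Lib.TwoPrimeDim.actsIrreducibly_iff K).mpr fun W hW => ?_, fun M hM => ?_⟩
    · rcases hirr (W.comap (φ 0)) (fun n u hu => by
        rw [Submodule.mem_comap] at hu ⊢
        rw [← heq]; exact hW n n.2 _ hu) with h | h
      · refine Or.inl ((Submodule.eq_bot_iff _).mpr fun w hw => ?_)
        obtain ⟨x, rfl⟩ := hsurj w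
        have : x ∈ W.comap (φ 0) := hw
        rw [h, Submodule.mem_bot] at this
        rw [this, map_zero]
      · refine Or.inr (eq_top_iff.mpr fun w _ => ?_)
        obtain ⟨x, rfl⟩ := hsurj w
        exact (h.symm ▸ trivial : x ∈ W.comap (φ 0))
    · let X : Matrix (Fin 9) (Fin 9) F :=
        LinearMap.toMatrix' (E.symm.toLinearMap ∘ₗ Matrix.toLin' M ∘ₗ E.toLinearMap)
      have hX : ∀ x, E (X *ᵥ x) = M *ᵥ E x := fun x => by
        rw [← Matrix.toLin'_apply X, Matrix.toLin'_toMatrix']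
        simp [Matrix.toLin'_apply]
      obtain ⟨c, hcX⟩ := hscal X fun n => Matrix.ext_of_mulVec_single fun i => E.injective (by
        rw [← Matrix.mulVec_mulVec, ← Matrix.mulVec_mulVec, hX, hE, hE, ← heq, ← heq, Matrix.mulVec_mulVec,
          hM _ ⟨n, n.2, rfl⟩, ← Matrix.mulVec_mulVec, ← hE, ← hE, hX])
      refine ⟨c, Cfsg.Agent.Lib.KnownA.PrimeDim.eq_smul_one fun v => ?_⟩
      obtain ⟨x, rfl⟩ := E.surjective v
      rw [← hX, hcX, Matrix.smul_mulVec, Matrix.one_mulVec, map_smul]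

/-- Over three elements a perfect non-abelian group has no frame. -/
theorem frame_absurd (hq : Fintype.card F = 3) {K : Subgroup (GL ι F)} (hiso : K ≤ Cfsg.isometryGroup F ⇑Q)
    (hperf : ⁅K, K⁆ = K) (hnab : ∃ x ∈ K, ∃ y ∈ K, x * y ≠ y * x) (Φ : Tensor.Frame Q K) : False := by
  classical
  have hφinj : Function.Injective (Φ.φ 0) := fun x y h =>
    Pi.single_injective (M := fun _ => Fin 3 → F) 0 (Φ.bij.1 (by rw [assemble_single, assemble_single, h]))
  have hAmul : ∀ (n m : K) x, Φ.A (n * m) *ᵥ x = Φ.A n *ᵥ (Φ.A m *ᵥ x) := fun n m x => hφinj (by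
    rw [← Φ.equiv, ← Φ.equiv, ← Φ.equiv, Matrix.mulVec_mulVec]; rfl)
  have hdot : ∀ (n : K) x y, (Φ.A n *ᵥ x) ⬝ᵥ (Φ.A n *ᵥ y) = x ⬝ᵥ y := fun n x y => by
    have h := Orth.iso_polar (hiso n.2) (Φ.φ 0 x) (Φ.φ 0 y)
    rw [Φ.equiv, Φ.equiv, Φ.gram, Φ.gram, if_pos rfl, if_pos rfl] at h
    exact mul_left_cancel₀ Φ.a_ne h
  have hunit : ∀ (n : K) (j : Fin 3), ∃ (i : Fin 3) (c : F), c ≠ 0 ∧
      Φ.A n *ᵥ Pi.single j 1 = c • Pi.single i 1 := by
    intro n j
    have h := hdot n (Pi.single j 1) (Pi.single j 1)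
    rw [single_one_dotProduct, Pi.single_eq_same] at h
    obtain ⟨i, hi, hi'⟩ := Lines.unit_vector hq h
    refine ⟨i, _, hi, funext fun l => ?_⟩
    rcases eq_or_ne l i with rfl | hl
    · simp
    · rw [hi' l hl, Pi.smul_apply, Pi.single_eq_of_ne hl, smul_zero]
  choose π c hc0 hπ using hunit
  have huniq : ∀ (i l : Fin 3) (a b : F), a ≠ 0 → a • Pi.single i (1 : F) = b • Pi.single l 1 → i = l := by
    intro i l a b ha h
    by_contra hil
    have := congrFun h i
    simp [Pi.single_eq_of_ne hil] at this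
    exact ha this
  have hmul : ∀ n m j, π (n * m) j = π n (π m j) := fun n m j => by
    refine huniq _ _ (c (n * m) j) (c m j * c n (π m j)) (hc0 _ _) ?_
    rw [← hπ, hAmul, hπ m, Matrix.mulVec_smul, hπ n, smul_smul]
  have hinj : ∀ n, Function.Injective (π n) := by
    intro n i l hil
    by_contra hne
    have h := hdot n (Pi.single i 1) (Pi.single l 1)
    rw [hπ, hπ, hil, single_one_dotProduct, Pi.single_eq_of_ne hne, smul_dotProduct, dotProduct_smul,
      single_one_dotProduct, Pi.single_eq_same, smul_eq_mul, smul_eq_mul, mul_one] at h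
    exact mul_ne_zero (hc0 n i) (hc0 n l) h
  let ρ : K →* Equiv.Perm (Fin 3) := MonoidHom.mk'
    (fun n => Equiv.ofBijective (π n) (Finite.injective_iff_bijective.mp (hinj n)))
    fun n m => Equiv.ext fun j => hmul n m j
  have hcomm : ∀ {M : Type} [Monoid M] (f : K →* M), (∀ x y, f x * f y = f y * f x) → ∀ x, f x = 1 := by
    intro M _ f hf x
    have hle : K ≤ f.ker.map K.subtype := hperf.ge.trans (Subgroup.commutator_le.mpr fun a ha b hb => by
      refine Subgroup.mem_map.mpr ⟨(⟨a, ha⟩ : K) * ⟨b, hb⟩ * (⟨a, ha⟩ : K)⁻¹ * (⟨b, hb⟩ : K)⁻¹, ?_, (by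
        simp only [commutatorElement_def, map_mul, map_inv, Subgroup.coe_subtype])⟩
      rw [MonoidHom.mem_ker, map_mul, map_mul, map_mul, hf ⟨a, ha⟩,
        mul_assoc (f ⟨b, hb⟩) (f ⟨a, ha⟩), ← map_mul, mul_inv_cancel, map_one, mul_one, ← map_mul, mul_inv_cancel,
        map_one])
    obtain ⟨y, hy, hyx⟩ := hle x.2
    rw [← Subtype.ext hyx]; exact hy
  have hsign : ∀ n, Equiv.Perm.sign (ρ n) = 1 := fun n =>
    hcomm (Equiv.Perm.sign.comp ρ) (fun x y => mul_comm _ _) n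
  have hρ : ∀ n, ρ n = 1 := hcomm ρ fun x y => by
    have hA3 : ∀ p q : Equiv.Perm (Fin 3), Equiv.Perm.sign p = 1 → Equiv.Perm.sign q = 1 → p * q = q * p := by
      decide
    exact hA3 _ _ (hsign x) (hsign y)
  obtain ⟨x, hx, y, hy, hxy⟩ := hnab
  refine hxy (Units.ext (Matrix.ext_of_mulVec_single fun i => ?_))
  obtain ⟨v, hv⟩ := Φ.bij.2 (Pi.single i 1)
  rw [← hv, Units.val_mul, Units.val_mul, ← Matrix.mulVec_mulVec, ← Matrix.mulVec_mulVec, Tensor.Frame.assemble_apply]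
  simp only [Matrix.mulVec_sum, Φ.equiv _ ⟨x, hx⟩, Φ.equiv _ ⟨y, hy⟩]
  refine Finset.sum_congr rfl fun j _ => congrArg _ ?_
  have hdiag : ∀ n l, Φ.A n *ᵥ Pi.single l 1 = c n l • Pi.single l 1 := fun n l => by
    rw [hπ, show π n l = l from Equiv.ext_iff.mp (hρ n) l]
  rw [pi_eq_sum_univ' (v j)]
  simp only [Matrix.mulVec_sum, Matrix.mulVec_smul, hdiag, smul_smul]
  exact Finset.sum_congr rfl fun l _ => by rw [mul_right_comm]

include hN in
/-- A frame gives the tensor square case. -/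
theorem tensor_case (h2 : (2 : F) ≠ 0) (hn : Fintype.card ι = 9) {H K : Subgroup (GL ι F)}
    (hH : Cfsg.Geo.IsMaximalIn (Cfsg.Geo.omegaGL ⇑Q) H) (hKH : K ≤ H)
    (hperf : ⁅K, K⁆ = K) (hnab : ∃ x ∈ K, ∃ y ∈ K, x * y ≠ y * x) (Φ : Tensor.Frame Q K)
    (hcase : ∀ h ∈ H, (∀ x ∈ K, h * x * h⁻¹ ∈ K) ∨ (∀ x ∈ K, ∀ y ∈ K, h * x * h⁻¹ * y = y * (h * x * h⁻¹))) :
    5 ≤ Fintype.card F ∧ ∃ (e : ι ≃ (Fin 2 → Fin 3)) (P : GL ι F) (f₁ : (Fin 3 → F) → (Fin 3 → F) → F),
      Cfsg.Geo.IsSymmetricForm f₁ ∧ Cfsg.Geo.IsTensorPowerFormStructure id (QuadraticMap.polar ⇑Q) f₁ e P ∧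
      H = Cfsg.Geo.tensorWreathSubgroup 3 2 e P ⊓ Cfsg.Geo.omegaGL ⇑Q := by
  refine ⟨?_, ?_⟩
  · have h3 := Proper.three_le_card h2
    by_contra hlt
    rcases (show Fintype.card F = 3 ∨ Fintype.card F = 4 by omega) with hq | hq
    · exact frame_absurd hq (fun x hx => Orth.omegaGL_le_isometry (hH.1.le (hKH hx))) hperf hnab Φ
    · have h := FiniteField.cast_card_eq_zero F
      rw [hq] at h
      exact h2 (mul_self_eq_zero.mp (by linear_combination h))
  · obtain ⟨e, P, f₁, hf, hT, hle⟩ := Φ.wreath H hcase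
    exact ⟨e, P, f₁, hf, hT, Cfsg.Agent.Lib.PrimeDim.OrthProper.eq_inf_of_le hH hle
      (Proper.not_le_tensorWreath hN hn e P)⟩

end Cfsg.Agent.Lib.OrthNine.Homog
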