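import Cfsg.Agent.Lib.PrimeDim.OrthProper
import Cfsg.Agent.Lib.KnownA.PrimeDim.Clifford

/-!
`Ω` in dimension at least seven fixes no small cone of vectors: no decomposition into three-spaces, no
tensor square, and normalises no field of matrices.
-/

set_option autoImplicit false
set_option linter.unusedSectionVars false
set_option linter.style.haveILetI false

namespace Cfsg.Agent.Lib.OrthNine.Proper

open Matrix QuadraticMap Module Cfsg.Agent.Lib.MaxSub Cfsg.Agent.Lib.PrimeDim.OrthProper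
open Cfsg.Agent.Lib.Geometry (quad_add quad_sub quad_smul quad_polar_self quad_polar_comm)
open scoped MatrixGroups Matrix commutatorElement

attribute [-simp] QuadraticMap.polarBilin_apply_apply

variable {ι : Type} [Fintype ι] [DecidableEq ι] {F : Type*} [Field F] {Q : QuadraticForm F (ι → F)}
  (hN : (polarBilin Q).Nondegenerate)

include hN in
/-- A set fixed by `Ω` and containing a non-zero vector is large. -/
theorem cone_large [Fintype F] (hn : 7 ≤ Fintype.card ι) (S : Set (ι → F))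
    (hS : ∀ g ∈ Cfsg.Geo.omegaGL ⇑Q, ∀ w ∈ S, (g : Matrix ι ι F) *ᵥ w ∈ S)
    {d : ι → F} (hd : d ∈ S) (hd0 : d ≠ 0) :
    Fintype.card F ^ (Fintype.card ι - 2) ≤ Nat.card S := by
  classical
  obtain ⟨u, hu, hdu⟩ := exists_sing_nonorth hN hn hd0
  let φ := (polarBilin Q u).prod (polarBilin Q d)
  have hC : ∀ c : LinearMap.ker φ, polarBilin Q u c.1 = 0 ∧ polarBilin Q d c.1 = 0 := fun c => by
    have := c.2
    simpa [φ, LinearMap.mem_ker, Prod.ext_iff] using this
  let f : LinearMap.ker φ → S := fun c =>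
    ⟨(Orth.eichGL Q u c.1 hu (hC c).1 : Matrix ι ι F) *ᵥ d, hS _ (Orth.eichGL_mem_omega hN hn hu (hC c).1) d hd⟩
  have hf : ∀ c, (f c).1 = d + polarBilin Q d u • c.1 - (Q c.1 * polarBilin Q d u) • u := fun c => by
    show (Orth.eichGL Q u c.1 hu (hC c).1 : Matrix ι ι F) *ᵥ d = _
    rw [Orth.eichGL_mulVec, (hC c).2, zero_add]
  have hinj : Function.Injective f := fun a b hab => by
    have h1 : (f a).1 = (f b).1 := by rw [hab]
    rw [hf, hf] at h1
    have h3 := congrArg (polarBilin Q d) h1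
    rw [map_sub, map_sub, map_add, map_add, map_smul, map_smul, map_smul, map_smul, (hC a).2, (hC b).2] at h3
    simp only [smul_eq_mul, mul_zero, add_zero, sub_right_inj, mul_eq_mul_right_iff, hdu, or_false] at h3
    refine Subtype.ext (smul_right_injective _ hdu ?_)
    rw [h3] at h1
    simpa using h1
  have h1 := φ.finrank_range_add_finrank_ker
  have h3 : finrank F (LinearMap.range φ) ≤ 2 := (Submodule.finrank_le _).trans (by simp)
  rw [Module.finrank_fintype_fun_eq_card] at h1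
  refine le_trans ?_ (Nat.card_le_card_of_injective f hinj)
  rw [Nat.card_eq_fintype_card, Module.card_eq_pow_finrank (K := F) (V := LinearMap.ker φ)]
  exact Nat.pow_le_pow_right (Fintype.card_pos (α := F)) (by omega)

theorem three_le_card [Fintype F] (h2 : (2 : F) ≠ 0) : 3 ≤ Fintype.card F := by
  have := Fintype.one_lt_card (α := F)
  by_contra hc
  have hc2 : Fintype.card F = 2 := by omega
  refine h2 ?_
  have h := FiniteField.cast_card_eq_zero F
  rwa [hc2] at h

include hN in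
/-- No decomposition into three three-spaces. -/
theorem not_le_decomposition_three [Fintype F] (h2 : (2 : F) ≠ 0) (hn : Fintype.card ι = 9)
    (D : Fin 3 → Submodule F (ι → F)) (hD : ∀ i, finrank F (D i) = 3) :
    ¬ Cfsg.Geo.omegaGL ⇑Q ≤ Cfsg.Geo.decompositionStabilizer D := by
  classical
  intro h
  obtain ⟨d, hd, hd0⟩ := (Submodule.ne_bot_iff (D 0)).mp fun hb => by
    have := hD 0
    rw [hb, finrank_bot] at this
    omega
  let S : Set (ι → F) := ⋃ i, (D i : Set (ι → F))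
  have hbig := cone_large hN (by omega) S (fun g hg w hw => by
    obtain ⟨i, hi⟩ := Set.mem_iUnion.mp hw
    obtain ⟨σ, hσ⟩ := h hg
    exact Set.mem_iUnion.mpr ⟨σ i, hσ i ▸ ⟨w, hi, Matrix.toLin'_apply _ _⟩⟩) (Set.mem_iUnion.mpr ⟨0, hd⟩) hd0
  have hle : Nat.card S ≤ 3 * Fintype.card F ^ 3 := by
    let π : (Σ i : Fin 3, D i) → S := fun x => ⟨x.2.1, Set.mem_iUnion.mpr ⟨x.1, x.2.2⟩⟩
    have hsurj : Function.Surjective π := fun w => by
      obtain ⟨i, hi⟩ := Set.mem_iUnion.mp w.2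
      exact ⟨⟨i, w.1, hi⟩, rfl⟩
    refine (Nat.card_le_card_of_surjective π hsurj).trans (le_of_eq ?_)
    rw [Nat.card_eq_fintype_card, Fintype.card_sigma,
      Finset.sum_congr rfl (fun i _ => by rw [Module.card_eq_pow_finrank (K := F), hD i]),
      Finset.sum_const, Finset.card_univ, Fintype.card_fin, smul_eq_mul]
  rw [hn, show 9 - 2 = 3 + 4 from rfl, pow_add] at hbig
  have hq := three_le_card h2
  have h4 : 3 < Fintype.card F ^ 4 := lt_of_lt_of_le (by norm_num) (Nat.pow_le_pow_left hq 4)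
  have h5 := Nat.mul_lt_mul_of_pos_right h4 (pow_pos (show 0 < Fintype.card F by omega) 3)
  rw [mul_comm (Fintype.card F ^ 3)] at hbig
  omega

include hN in
/-- No tensor square. -/
theorem not_le_tensorWreath [Fintype F] (hn : Fintype.card ι = 9) (e : ι ≃ (Fin 2 → Fin 3)) (P : GL ι F) :
    ¬ Cfsg.Geo.omegaGL ⇑Q ≤ Cfsg.Geo.tensorWreathSubgroup 3 2 e P := by
  classical
  intro hle
  let S₀ : Set ((Fin 2 → Fin 3) → F) := Set.range fun z : Fin 2 → Fin 3 → F => fun a => ∏ i, z i (a i)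
  have hfin : ∀ g : GL (Fin 2 → Fin 3) F, (∀ w ∈ S₀, (g : Matrix _ _ F) *ᵥ w ∈ S₀) →
      g ∈ Cfsg.stabilizing (Cfsg.glToMat (Fin 2 → Fin 3) F) S₀ := by
    intro g hg v
    refine ⟨fun hv => hg v hv, fun hv => ?_⟩
    have hinj : Function.Injective fun w : S₀ => (⟨(g : Matrix _ _ F) *ᵥ w.1, hg w.1 w.2⟩ : S₀) := by
      intro x y hxy
      exact Subtype.ext (Matrix.mulVec_injective_iff_isUnit.mpr g.isUnit (congrArg Subtype.val hxy))
    obtain ⟨⟨w, hw⟩, hwe⟩ := (Finite.injective_iff_surjective.mp hinj) ⟨_, hv⟩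
    exact Matrix.mulVec_injective_iff_isUnit.mpr g.isUnit (congrArg Subtype.val hwe) ▸ hw
  have hstd : Cfsg.Geo.tensorWreathStandard 3 2 F ≤ Cfsg.stabilizing (Cfsg.glToMat (Fin 2 → Fin 3) F) S₀ := by
    refine (Subgroup.closure_le _).mpr fun g hg => hfin g ?_
    rintro _ ⟨z, rfl⟩
    rcases hg with ⟨gs, hgs⟩ | ⟨σ, hσ⟩
    · refine ⟨fun i => (gs i : Matrix (Fin 3) (Fin 3) F) *ᵥ z i, funext fun a => ?_⟩
      simp only [Matrix.mulVec, dotProduct, hgs]
      rw [Fintype.prod_sum]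
      refine Finset.sum_congr rfl fun b _ => ?_
      rw [← Finset.prod_mul_distrib]
    · refine ⟨fun i => z (σ.symm i), funext fun a => ?_⟩
      simp only [Matrix.mulVec, dotProduct, hσ, ite_mul, one_mul, zero_mul, Finset.sum_ite_eq', Finset.mem_univ,
        if_true, Function.comp_apply]
      rw [← Equiv.prod_comp σ]
      simp
  let pu : (Fin 2 → Fin 3 → F) → (ι → F) := fun z =>
    (P : Matrix ι ι F) *ᵥ ((fun a => ∏ i, z i (a i)) ∘ e)
  have hS : ∀ g ∈ Cfsg.Geo.omegaGL ⇑Q, ∀ w ∈ Set.range pu, (g : Matrix ι ι F) *ᵥ w ∈ Set.range pu := by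
    rintro g hg _ ⟨z, rfl⟩
    obtain ⟨y, ⟨x, hx, rfl⟩, hy⟩ := hle hg
    obtain ⟨z', hz'⟩ := (hstd hx _).mp ⟨z, rfl⟩
    refine ⟨z', ?_⟩
    simp only [MulEquiv.coe_toMonoidHom, MulAut.conj_apply] at hy
    rw [← hy]
    simp only [pu, Units.val_mul, ← Matrix.mulVec_mulVec]
    rw [Matrix.mulVec_mulVec ((fun a => ∏ i, z i (a i)) ∘ e), ← Units.val_mul P⁻¹ P, inv_mul_cancel, Units.val_one,
      Matrix.one_mulVec]
    congr 1
    show _ = Matrix.reindex e.symm e.symm (x : Matrix _ _ F) *ᵥ _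
    rw [Matrix.reindex_apply, Equiv.symm_symm, Matrix.submatrix_mulVec_equiv, Function.comp_assoc,
      Equiv.self_comp_symm, Function.comp_id]
    exact congrArg (· ∘ e) hz'
  have h1 : (P : Matrix ι ι F) *ᵥ ((fun a : Fin 2 → Fin 3 => ∏ _i : Fin 2, (1 : F)) ∘ e) ≠ 0 := fun h => by
    have := Matrix.mulVec_injective_iff_isUnit.mpr P.isUnit (h.trans (Matrix.mulVec_zero _).symm)
    exact one_ne_zero (α := F) (by simpa using congrFun this (e.symm fun _ => 0))
  have hbig := cone_large hN (by omega) (Set.range pu) hS ⟨fun _ _ => 1, rfl⟩ h1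
  have hsmall : Nat.card (Set.range pu) ≤ (Fintype.card F ^ 3) ^ 2 := by
    refine (Nat.card_le_card_of_surjective (Set.rangeFactorization pu) Set.rangeFactorization_surjective).trans
      (le_of_eq ?_)
    rw [Nat.card_eq_fintype_card, Fintype.card_fun, Fintype.card_fun, Fintype.card_fin, Fintype.card_fin]
  rw [hn, ← pow_mul] at *
  exact absurd (hbig.trans hsmall) (not_le.mpr (Nat.pow_lt_pow_right Fintype.one_lt_card (by norm_num)))

include hN in
/-- The Eichler elements are products of commutators of `Ω`. -/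
theorem eichGL_mem_derived [Finite F] (hn : 7 ≤ Fintype.card ι) {u x : ι → F} (hu : Q u = 0)
    (hx : polarBilin Q u x = 0) :
    Orth.eichGL Q u x hu hx ∈ ⁅Cfsg.Geo.omegaGL ⇑Q, Cfsg.Geo.omegaGL ⇑Q⁆ := by
  obtain ⟨e, f, e₂, f₂, e₃, f₃, h⟩ := Orth.exists_hypThree hN hn
  have hmem : Cfsg.Agent.Lib.Classical.eich Q u x hu hx ∈
      (⁅Cfsg.Agent.Lib.Classical.eichGroup Q ⊤, Cfsg.Agent.Lib.Classical.eichGroup Q ⊤⁆ :
        Subgroup (Cfsg.Agent.Lib.Geometry.quadIsometries Q)) :=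
    Cfsg.Agent.Lib.Classical.eichGroup_le_commutator h (Cfsg.Agent.Lib.Classical.eich_mem Q hu hx trivial trivial)
  have hmap : (Cfsg.Agent.Lib.Classical.eichGroup Q ⊤).map (Orth.toGL Q) ≤ Cfsg.Geo.omegaGL ⇑Q := by
    rw [Subgroup.map_le_iff_le_comap]
    refine (Subgroup.closure_le _).mpr ?_
    rintro _ ⟨v, y, hv, hy, -, -, rfl⟩
    exact Orth.eichGL_mem_omega hN hn hv hy
  have hle := Subgroup.commutator_mono hmap hmap
  rw [← Subgroup.map_commutator] at hle
  exact hle ⟨_, hmem, rfl⟩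

include hN in
/-- `Ω` normalises no field of matrices bigger than the scalars. -/
theorem not_le_subalgebraNormalizer [Fintype F] (h2 : (2 : F) ≠ 0) (hn : 7 ≤ Fintype.card ι) {r : ℕ} (hr : r ≠ 1)
    {K : Subalgebra F (Matrix ι ι F)} (hK : Cfsg.Geo.IsFieldSubalgebra r K) :
    ¬ Cfsg.Geo.omegaGL ⇑Q ≤ Cfsg.Geo.subalgebraNormalizer K := by
  intro hle
  haveI : Nonempty ι := Fintype.card_pos_iff.mp (by omega)
  obtain ⟨e, f, e₂, f₂, e₃, f₃, h⟩ := Orth.exists_hypThree hN hn
  have hqe := h.1.qe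
  obtain ⟨x, hx, hQx⟩ := exists_nonsing_perp hN hn e
  refine hr ?_
  rw [← hK.finrank_eq]
  refine finrank_eq_one (R := F) (1 : K) one_ne_zero fun k => ?_
  have hcomm : ∀ (y : ι → F) (hy : polarBilin Q e y = 0),
      (Orth.eichGL Q e y hqe hy : Matrix ι ι F) * (k : Matrix ι ι F) =
        (k : Matrix ι ι F) * (Orth.eichGL Q e y hqe hy : Matrix ι ι F) := by
    intro y hy
    have hder : ⁅Cfsg.Geo.omegaGL ⇑Q, Cfsg.Geo.omegaGL ⇑Q⁆ ≤
        Subgroup.centralizer ({g : GL ι F | ∃ u : Kˣ, (g : Matrix ι ι F) = ((u : K) : Matrix ι ι F)}) := by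
      refine Subgroup.commutator_le.mpr fun a ha c hc => Subgroup.mem_centralizer_iff.mpr ?_
      rintro g ⟨u, hu⟩
      refine Units.ext ?_
      rw [Units.val_mul, Units.val_mul, hu]
      exact (Cfsg.Agent.Lib.KnownA.PrimeDim.commutator_centralizes (by omega) hK (hle ha) (hle hc) (u : K).2).symm
    have hg := Subgroup.mem_centralizer_iff.mp (hder (eichGL_mem_derived hN hn hqe hy))
    by_cases hk0 : (k : Matrix ι ι F) = 0
    · simp [hk0]
    obtain ⟨z, hz, hkz⟩ := hK.inv k k.2 hk0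
    let uK : Kˣ := ⟨k, ⟨z, hz⟩, Subtype.ext hkz, Subtype.ext (by
      show z * (k : Matrix ι ι F) = 1
      rw [hK.comm z hz k k.2]; exact hkz)⟩
    let g : GL ι F := Units.map (K.val : K →* Matrix ι ι F) uK
    have := congrArg Units.val (hg g ⟨uK, rfl⟩)
    rw [Units.val_mul, Units.val_mul] at this
    exact this.symm
  have hsum : ∀ v, (Orth.eichGL Q e x hqe hx : Matrix ι ι F) *ᵥ v +
      (Orth.eichGL Q e (-x) hqe (by rw [map_neg, hx, neg_zero]) : Matrix ι ι F) *ᵥ v =
      v + v - (2 * (Q x * polarBilin Q v e)) • e := by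
    intro v
    rw [Orth.eichGL_mulVec, Orth.eichGL_mulVec, map_neg, QuadraticMap.map_neg]
    module
  have hef : polarBilin Q f e = 1 := by rw [quad_polar_comm, h.1.ef]
  have hke := congrArg ((k : Matrix ι ι F) *ᵥ ·) (hsum f)
  simp only [Matrix.mulVec_add, Matrix.mulVec_sub, Matrix.mulVec_smul, Matrix.mulVec_mulVec] at hke
  rw [← hcomm x hx, ← hcomm (-x) (by rw [map_neg, hx, neg_zero]), ← Matrix.mulVec_mulVec,
    ← Matrix.mulVec_mulVec, hsum, hef, mul_one, sub_right_inj] at hke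
  set c := polarBilin Q ((k : Matrix ι ι F) *ᵥ f) e with hc
  have hev : (k : Matrix ι ι F) *ᵥ e = c • e := by
    have hne : 2 * Q x ≠ 0 := mul_ne_zero h2 hQx
    refine smul_right_injective _ hne ?_
    show (2 * Q x) • ((k : Matrix ι ι F) *ᵥ e) = (2 * Q x) • c • e
    rw [← hke, smul_smul, mul_assoc]
  refine ⟨c, Subtype.ext ?_⟩
  show c • (1 : Matrix ι ι F) = (k : Matrix ι ι F)
  by_contra hne
  obtain ⟨z, hz, hkz⟩ := hK.inv ((k : Matrix ι ι F) - c • 1) (K.sub_mem k.2 (K.smul_mem K.one_mem c))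
    (fun h0 => hne (sub_eq_zero.mp h0).symm)
  have he0 : e ≠ 0 := fun h0 => by
    have := h.1.ef
    rw [h0, map_zero, LinearMap.zero_apply] at this
    exact zero_ne_one this
  refine he0 ?_
  have h1 : ((k : Matrix ι ι F) - c • 1) *ᵥ e = 0 := by
    rw [Matrix.sub_mulVec, hev, Matrix.smul_mulVec, Matrix.one_mulVec, sub_self]
  have h3 := congrArg (z *ᵥ ·) h1
  simp only [Matrix.mulVec_mulVec, Matrix.mulVec_zero] at h3
  rwa [hK.comm z hz _ (K.sub_mem k.2 (K.smul_mem K.one_mem c)), hkz, Matrix.one_mulVec] at h3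

end Cfsg.Agent.Lib.OrthNine.Proper
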