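import Cfsg.Agent.Lib.OrthNine.Adjoint
import Cfsg.Agent.Lib.OrthNine.Proper
import Cfsg.Agent.Lib.OrthNine.Tensor
import Cfsg.Agent.Lib.PrimeDim.OrthCases

/-!
Nine orthogonal lines of one isometry type, permuted by a maximal subgroup: the decomposition over a prime
field, a subfield structure otherwise. Over three elements three orthogonal three-spaces refine to such lines.
-/

set_option autoImplicit false
set_option linter.unusedSectionVars false
set_option linter.style.haveILetI false

namespace Cfsg.Agent.Lib.OrthNine.Lines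

open Matrix Module QuadraticMap Cfsg.Agent.Lib.MaxSub
open Cfsg.Agent.Lib.Geometry (quad_add quad_sub quad_smul quad_polar_self quad_polar_comm)
open Cfsg.Agent.Lib.PrimeDim (OrthProper.eq_inf_of_le OrthCases.nondegenerateForm)
open scoped MatrixGroups Matrix

attribute [-simp] QuadraticMap.polarBilin_apply_apply

variable {ι : Type} [Fintype ι] [DecidableEq ι] {F : Type*} [Field F] [Fintype F]

/-- A vector of three coordinates over three elements with square sum one has one non-zero coordinate. -/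
theorem unit_vector (hq : Fintype.card F = 3) {x : Fin 3 → F} (hx : ∑ i, x i * x i = 1) :
    ∃ i, x i ≠ 0 ∧ ∀ j, j ≠ i → x j = 0 := by
  have h3 : (3 : F) = 0 := by
    have h := FiniteField.cast_card_eq_zero F
    rwa [hq] at h
  have hne : (2 : F) ≠ 1 := fun h => one_ne_zero (α := F) (by linear_combination h)
  have hsq : ∀ i, x i = 0 ∨ x i * x i = 1 := fun i => by
    by_cases h : x i = 0
    · exact Or.inl h
    · right
      have := FiniteField.pow_card_sub_one_eq_one (x i) h
      rwa [hq, show 3 - 1 = 2 from rfl, pow_two] at this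
  rw [Fin.sum_univ_three] at hx
  rcases eq_or_ne (x 0) 0 with h0 | h0 <;> rcases eq_or_ne (x 1) 0 with h1 | h1 <;>
    rcases eq_or_ne (x 2) 0 with h2 | h2
  · simp [h0, h1, h2] at hx
  · exact ⟨2, h2, fun j hj => by fin_cases j <;> simp_all⟩
  · exact ⟨1, h1, fun j hj => by fin_cases j <;> simp_all⟩
  · rw [h0, (hsq 1).resolve_left h1, (hsq 2).resolve_left h2] at hx
    exact absurd (by linear_combination hx) hne
  · exact ⟨0, h0, fun j hj => by fin_cases j <;> simp_all⟩
  · rw [h1, (hsq 0).resolve_left h0, (hsq 2).resolve_left h2] at hx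
    exact absurd (by linear_combination hx) hne
  · rw [h2, (hsq 0).resolve_left h0, (hsq 1).resolve_left h1] at hx
    exact absurd (by linear_combination hx) hne
  · rw [(hsq 0).resolve_left h0, (hsq 1).resolve_left h1, (hsq 2).resolve_left h2] at hx
    exact absurd (by linear_combination h3 - hx : (1 : F) = 0) one_ne_zero

variable {Q : QuadraticForm F (ι → F)} (hN : (polarBilin Q).Nondegenerate)

theorem indep_of_orth {κ : Type} [Fintype κ] {v : κ → (ι → F)}
    (hne : ∀ k, polarBilin Q (v k) (v k) ≠ 0) (horth : ∀ i j, i ≠ j → polarBilin Q (v i) (v j) = 0) :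
    LinearIndependent F v := by
  classical
  refine Fintype.linearIndependent_iff.mpr fun c hc k => ?_
  have h := congrArg (polarBilin Q (v k)) hc
  rw [map_sum, map_zero, Finset.sum_eq_single k (fun l _ hl => by rw [map_smul, horth k l hl.symm, smul_zero])
    (fun h => absurd (Finset.mem_univ _) h), map_smul, smul_eq_mul] at h
  exact (mul_eq_zero.mp h).resolve_right (hne k)

include hN in
theorem lines_case (h2 : (2 : F) ≠ 0) (hn : Fintype.card ι = 9)
    (hd : ∀ F₀ : Subfield F, (Cfsg.Geo.gramMatrix (QuadraticMap.polar ⇑Q)).det ∈ F₀)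
    {H : Subgroup (GL ι F)} (hH : Cfsg.Geo.IsMaximalIn (Cfsg.Geo.omegaGL ⇑Q) H)
    (v : Fin 9 → (ι → F)) {a : F} (ha : a ≠ 0) (hQv : ∀ i, Q (v i) = a)
    (horth : ∀ i j, i ≠ j → polarBilin Q (v i) (v j) = 0)
    (hmon : ∀ g ∈ H, ∀ i, ∃ (j : Fin 9) (c : F), (g : Matrix ι ι F) *ᵥ v i = c • v j) :
    ((Fintype.card F).Prime ∧ ∃ D : Fin 9 → Submodule F (ι → F),
      Cfsg.Geo.IsOrthogonalMDecomposition (⇑Q) 1 D ∧
      H = Cfsg.Geo.decompositionStabilizer D ⊓ Cfsg.Geo.omegaGL ⇑Q) ∨
    (∃ (F₀ : Subfield F) (r : ℕ) (P : GL ι F), r.Prime ∧ Fintype.card F = Nat.card F₀ ^ r ∧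
      Cfsg.Geo.IsQuadFormRationalStructure (⇑Q) F₀ P ∧
      H = Cfsg.Geo.subfieldSubgroup F₀ P ⊓ Cfsg.Geo.omegaGL ⇑Q) := by
  classical
  have hiso : ∀ g ∈ H, g ∈ Cfsg.isometryGroup F ⇑Q := fun g hg => Orth.omegaGL_le_isometry (hH.1.le hg)
  have h2a : 2 * a ≠ 0 := mul_ne_zero h2 ha
  have hBv : ∀ i j, polarBilin Q (v i) (v j) = if i = j then 2 * a else 0 := fun i j => by
    by_cases hij : i = j
    · subst hij; rw [if_pos rfl, quad_polar_self, hQv]
    · rw [if_neg hij, horth i j hij]
  have hli : LinearIndependent F v := indep_of_orth (fun k => by rw [hBv, if_pos rfl]; exact h2a) horth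
  have hv0 : ∀ i, v i ≠ 0 := fun i => hli.ne_zero i
  have hsgn : ∀ g ∈ H, ∀ i j (c : F), (g : Matrix ι ι F) *ᵥ v i = c • v j → c = 1 ∨ c = -1 := by
    intro g hg i j c hc
    have h1 := Orth.iso_quad (hiso g hg) (v i)
    rw [hc, quad_smul, hQv, hQv] at h1
    exact mul_self_eq_one_iff.mp ((mul_eq_right₀ ha).mp h1)
  by_cases hp : (Fintype.card F).Prime
  · left
    refine ⟨hp, ?_⟩
    let D : Fin 9 → Submodule F (ι → F) := fun k => F ∙ v k
    have hD : ∀ k, finrank F (D k) = 1 := fun k => finrank_span_singleton (hv0 k)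
    refine ⟨D, ⟨⟨⟨by norm_num, one_pos, hD, hli.iSupIndep_span_singleton, ?_⟩, fun k => ?_, fun k l hkl => ?_⟩,
      fun k l => ?_⟩, OrthProper.eq_inf_of_le hH (fun g hg => ?_)
      (Cfsg.Agent.Lib.PrimeDim.OrthProper.not_le_decompositionStabilizer hN h2 (by omega) hn.symm D hD)⟩
    · rw [← Submodule.span_range_eq_iSup]
      exact hli.span_eq_top_of_card_eq_finrank (by simp [hn])
    · intro w hw hw0
      obtain ⟨d, rfl⟩ := Submodule.mem_span_singleton.mp hw
      have hd0 : d ≠ 0 := fun h => hw0 (by rw [h, zero_smul])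
      have hne : polarBilin Q (v k) (d • v k) ≠ 0 := by
        rw [map_smul, smul_eq_mul, hBv, if_pos rfl]
        exact mul_ne_zero hd0 h2a
      refine ⟨⟨v k, Submodule.mem_span_singleton_self _, ?_⟩, v k, Submodule.mem_span_singleton_self _, ?_⟩
      · rwa [← polarBilin_apply_apply]
      · rw [QuadraticMap.polar_comm, ← polarBilin_apply_apply]; exact hne
    · intro u hu w hw
      obtain ⟨c, rfl⟩ := Submodule.mem_span_singleton.mp hu
      obtain ⟨d, rfl⟩ := Submodule.mem_span_singleton.mp hw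
      rw [← polarBilin_apply_apply, map_smul, map_smul, LinearMap.smul_apply, horth _ _ hkl, smul_zero, smul_zero]
    · refine ⟨(LinearEquiv.toSpanNonzeroSingleton F _ (v k) (hv0 k)).symm.trans
        (LinearEquiv.toSpanNonzeroSingleton F _ (v l) (hv0 l)), fun w => ?_⟩
      obtain ⟨c, rfl⟩ := (LinearEquiv.toSpanNonzeroSingleton F _ (v k) (hv0 k)).surjective w
      rw [LinearEquiv.trans_apply, LinearEquiv.symm_apply_apply]
      show Q (c • v l) = Q (c • v k)
      rw [quad_smul, quad_smul, hQv, hQv]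
    · choose σ c hσ using hmon g hg
      have hinj : Function.Injective σ := by
        intro k l hkl
        by_contra hne
        have h4 := Orth.iso_polar (hiso g hg) (v k) (v l)
        rw [hσ, hσ, hkl, horth _ _ hne, map_smul, map_smul, LinearMap.smul_apply, hBv, if_pos rfl, smul_eq_mul,
          smul_eq_mul] at h4
        rcases hsgn g hg k _ _ (hσ k) with hc | hc <;> rcases hsgn g hg l _ _ (hσ l) with hc' | hc' <;>
          simp [hc, hc', h2, ha] at h4
      refine ⟨Equiv.ofBijective σ (Finite.injective_iff_bijective.mp hinj), fun k => ?_⟩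
      have hu : IsUnit (c k) := by
        rcases hsgn g hg k _ _ (hσ k) with hc | hc <;> simp [hc]
      show (F ∙ v k).map _ = F ∙ v (σ k)
      rw [Submodule.map_span, Set.image_singleton, Matrix.toLin'_apply, hσ, Submodule.span_singleton_smul_eq hu]
  · right
    let e : Fin 9 ≃ ι := (finCongr hn.symm).trans (Fintype.equivFin ι).symm
    let u : ι → (ι → F) := fun j => v (e.symm j)
    let M₀ : Matrix ι ι F := Matrix.of fun r j => u j r
    have hM₀ : ∀ j, M₀ *ᵥ Pi.single j 1 = u j := fun j => by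
      rw [Matrix.mulVec_single_one]; rfl
    have hNQ := OrthCases.nondegenerateForm hN
    have hform := PrimeDim.FormDescent.form_eq (RingHom.id F) (QuadraticMap.polar ⇑Q) hNQ.polar_bilinear.add_left
      hNQ.polar_bilinear.smul_left hNQ.polar_bilinear.add_right hNQ.polar_bilinear.smul_right
    set G := Cfsg.Geo.gramMatrix (QuadraticMap.polar ⇑Q) with hG
    have hGram : M₀ᵀ * G * M₀ = (2 * a) • (1 : Matrix ι ι F) := by
      ext i j
      have h1 := PrimeDim.FormDescent.gram_congr (RingHom.id F) (QuadraticMap.polar ⇑Q) hform M₀ (Pi.single i 1)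
        (Pi.single j 1)
      rw [hM₀, hM₀, ← polarBilin_apply_apply, hBv, show M₀.map (RingHom.id F) = M₀ by ext; rfl,
        show (RingHom.id F) ∘ Pi.single j (1 : F) = Pi.single j 1 from rfl,
        Matrix.mulVec_single_one, single_one_dotProduct] at h1
      simp only [e.symm.injective.eq_iff] at h1
      rw [Matrix.smul_apply, Matrix.one_apply, smul_eq_mul, mul_ite, mul_one, mul_zero]
      exact h1.symm
    have hdet : M₀.det * G.det * M₀.det = (2 * a) ^ Fintype.card ι := by
      have h3 := congrArg Matrix.det hGram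
      rwa [Matrix.det_mul, Matrix.det_mul, Matrix.det_transpose, Matrix.det_smul, Matrix.det_one, mul_one] at h3
    have hM0 : M₀.det ≠ 0 := fun h0 => pow_ne_zero (Fintype.card ι) h2a (by rw [← hdet, h0, mul_zero])
    set μ : F := (2 * a) ^ 4 / M₀.det with hμ
    have hμ0 : μ ≠ 0 := div_ne_zero (pow_ne_zero _ h2a) hM0
    have hμa : μ * μ * (2 * a) = G.det := by
      rw [hn] at hdet
      rw [hμ, div_mul_div_comm, div_mul_eq_mul_div, div_eq_iff (mul_ne_zero hM0 hM0)]
      linear_combination -hdet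
    obtain ⟨F₀, r, -, hr, hcard⟩ := PrimeDim.FormDescent.exists_prime_index (F₀ := (⊥ : Subfield F)) (fun h0 => by
      obtain ⟨p, hpc⟩ := CharP.exists F
      haveI : Fact p.Prime := ⟨CharP.char_is_prime F p⟩
      have h1 : Nat.card (⊥ : Subfield F) = p := Subfield.card_bot F p
      rw [h0, Nat.card_congr (Subfield.topEquiv (K := F)).toEquiv, Nat.card_eq_fintype_card] at h1
      exact hp (h1 ▸ Fact.out))
    have hPdet : (μ • M₀).det ≠ 0 := by
      rw [Matrix.det_smul]; exact mul_ne_zero (pow_ne_zero _ hμ0) hM0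
    let P : GL ι F := Matrix.GeneralLinearGroup.mkOfDetNeZero (μ • M₀) hPdet
    have hP : (P : Matrix ι ι F) = μ • M₀ := rfl
    have hF₀ne : F₀ ≠ ⊤ := fun he => by
      rw [he, Nat.card_congr (Subfield.topEquiv (K := F)).toEquiv] at hcard
      exact hr.ne_one (Nat.pow_right_injective (Finite.one_lt_card (α := F)) (by simpa using hcard.symm))
    refine ⟨F₀, r, P, hr, by rw [← Nat.card_eq_fintype_card]; exact hcard, fun x hx => ?_,
      OrthProper.eq_inf_of_le hH (fun g hg => ?_)
        (Cfsg.Agent.Lib.PrimeDim.OrthProper.not_le_subfieldSubgroup hN h2 (by omega) hF₀ne P)⟩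
    · have hval : Q ((P : Matrix ι ι F) *ᵥ x) = G.det / 2 * ∑ j, x j * x j := by
        have h1 := PrimeDim.FormDescent.gram_congr (RingHom.id F) (QuadraticMap.polar ⇑Q) hform M₀ x x
        rw [show M₀.map (RingHom.id F) = M₀ by ext; rfl, ← hG, hGram,
          show (RingHom.id F) ∘ x = x from rfl, Matrix.smul_mulVec, Matrix.one_mulVec, dotProduct_smul,
          ← polarBilin_apply_apply, quad_polar_self, smul_eq_mul] at h1
        rw [hP, Matrix.smul_mulVec, quad_smul, ← hμa, show ∑ j, x j * x j = x ⬝ᵥ x from rfl]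
        have h3 : Q (M₀ *ᵥ x) = a * (x ⬝ᵥ x) := mul_left_cancel₀ h2 (by rw [h1, mul_assoc])
        rw [h3, eq_comm, div_mul_eq_mul_div, div_eq_iff h2]
        ring
      rw [hval]
      exact F₀.mul_mem (F₀.div_mem (hd F₀) (natCast_mem F₀ 2)) (F₀.sum_mem fun j _ => F₀.mul_mem (hx j) (hx j))
    · have hent : ∀ i j, ((P⁻¹ * g * P : GL ι F) : Matrix ι ι F) i j ∈ F₀ := by
        intro i j
        obtain ⟨l, ε, hgv⟩ := hmon g hg (e.symm j)
        have hεmem : ε ∈ F₀ := by
          rcases hsgn g hg _ _ _ hgv with h1 | h1 <;> rw [h1]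
          · exact F₀.one_mem
          · exact F₀.neg_mem F₀.one_mem
        have hl : v l = u (e l) := by simp [u]
        have hcol : ((P⁻¹ * g * P : GL ι F) : Matrix ι ι F) *ᵥ Pi.single j 1 = ε • Pi.single (e l) 1 := by
          rw [Units.val_mul, Units.val_mul, ← Matrix.mulVec_mulVec, ← Matrix.mulVec_mulVec, hP,
            Matrix.smul_mulVec, hM₀, Matrix.mulVec_smul, hgv, smul_comm μ ε, hl, ← hM₀, ← Matrix.smul_mulVec,
            ← hP, Matrix.mulVec_smul, Matrix.mulVec_mulVec, ← Units.val_mul, inv_mul_cancel, Units.val_one,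
            Matrix.one_mulVec]
        have h3 := congrFun hcol i
        rw [Matrix.mulVec_single_one, Pi.smul_apply, Pi.single_apply, smul_eq_mul, mul_ite, mul_one, mul_zero] at h3
        rw [show ((P⁻¹ * g * P : GL ι F) : Matrix ι ι F) i j = if i = e l then ε else 0 from h3]
        split_ifs
        · exact hεmem
        · exact F₀.zero_mem
      let A : Matrix ι ι F₀ := Matrix.of fun i j => ⟨_, hent i j⟩
      have hA : A.map F₀.subtype = ((P⁻¹ * g * P : GL ι F) : Matrix ι ι F) := rfl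
      have hAdet : A.det ≠ 0 := fun h0 => by
        have h1 : (A.map F₀.subtype).det = 0 := by
          rw [← RingHom.mapMatrix_apply, ← RingHom.map_det, h0, map_zero]
        rw [hA] at h1
        exact (Matrix.GeneralLinearGroup.det_ne_zero _) h1
      refine ⟨Matrix.GeneralLinearGroup.map (F₀.subtype : F₀ →+* F)
        (Matrix.GeneralLinearGroup.mkOfDetNeZero A hAdet), Subgroup.mem_sup_left ⟨_, rfl⟩, ?_⟩
      rw [show Matrix.GeneralLinearGroup.map (F₀.subtype : F₀ →+* F)
        (Matrix.GeneralLinearGroup.mkOfDetNeZero A hAdet) = P⁻¹ * g * P from Units.ext hA]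
      simp only [MulEquiv.coe_toMonoidHom, MulAut.conj_apply]
      group

include hN in
/-- Nine blocks of dimension one. -/
theorem lines_of_blocks (h2 : (2 : F) ≠ 0) (hn : Fintype.card ι = 9)
    (hd : ∀ F₀ : Subfield F, (Cfsg.Geo.gramMatrix (QuadraticMap.polar ⇑Q)).det ∈ F₀)
    {H : Subgroup (GL ι F)} (hH : Cfsg.Geo.IsMaximalIn (Cfsg.Geo.omegaGL ⇑Q) H)
    {D : Fin 9 → Submodule F (ι → F)} (hD : Cfsg.Geo.IsOrthogonalMDecomposition (⇑Q) 1 D)
    (hle : H ≤ Cfsg.Geo.decompositionStabilizer D) :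
    ((Fintype.card F).Prime ∧ ∃ D : Fin 9 → Submodule F (ι → F),
      Cfsg.Geo.IsOrthogonalMDecomposition (⇑Q) 1 D ∧
      H = Cfsg.Geo.decompositionStabilizer D ⊓ Cfsg.Geo.omegaGL ⇑Q) ∨
    (∃ (F₀ : Subfield F) (r : ℕ) (P : GL ι F), r.Prime ∧ Fintype.card F = Nat.card F₀ ^ r ∧
      Cfsg.Geo.IsQuadFormRationalStructure (⇑Q) F₀ P ∧
      H = Cfsg.Geo.subfieldSubgroup F₀ P ⊓ Cfsg.Geo.omegaGL ⇑Q) := by
  have h1 := hD.decomp.decomp.finrank_eq
  obtain ⟨d, hd0, hdsp⟩ := finrank_eq_one_iff'.mp (h1 0)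
  choose E hE using fun i => hD.isometric 0 i
  let v : Fin 9 → (ι → F) := fun i => (E i d : ι → F)
  have hQd : Q (d : ι → F) ≠ 0 := by
    intro h0
    have hne : (d : ι → F) ≠ 0 := fun h => hd0 (Subtype.ext h)
    obtain ⟨⟨w, hw, hw'⟩, -⟩ := hD.decomp.nondegenerate 0 (d : ι → F) d.2 hne
    obtain ⟨c, hc⟩ := hdsp ⟨w, hw⟩
    have hc' : w = c • (d : ι → F) := (congrArg Subtype.val hc).symm
    refine hw' ?_
    rw [QuadraticMap.polar_comm, ← polarBilin_apply_apply, hc', map_smul, quad_polar_self,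
      h0, mul_zero, smul_zero]
  refine lines_case hN h2 hn hd hH v hQd (fun i => hE i d) (fun i j hij => ?_) (fun g hg i => ?_)
  · rw [polarBilin_apply_apply]
    exact hD.decomp.orthogonal i j hij _ (E i d).2 _ (E j d).2
  · obtain ⟨σ, hσ⟩ := hle hg
    have hmem : (g : Matrix ι ι F) *ᵥ v i ∈ D (σ i) :=
      hσ i ▸ ⟨v i, (E i d).2, Matrix.toLin'_apply _ _⟩
    obtain ⟨z, hz⟩ := (E (σ i)).surjective ⟨_, hmem⟩
    obtain ⟨c, hc⟩ := hdsp z
    refine ⟨σ i, c, ?_⟩
    have := congrArg Subtype.val hz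
    rw [← hc, map_smul] at this
    exact this.symm

include hN in
/-- Over three elements three orthogonal three-spaces refine to nine lines. -/
theorem refine_three (h2 : (2 : F) ≠ 0) (hn : Fintype.card ι = 9) (hq : Fintype.card F = 3)
    (hd : ∀ F₀ : Subfield F, (Cfsg.Geo.gramMatrix (QuadraticMap.polar ⇑Q)).det ∈ F₀)
    {H : Subgroup (GL ι F)} (hH : Cfsg.Geo.IsMaximalIn (Cfsg.Geo.omegaGL ⇑Q) H)
    {D : Fin 3 → Submodule F (ι → F)} (hD : Cfsg.Geo.IsOrthogonalMDecomposition (⇑Q) 3 D)
    (hle : H ≤ Cfsg.Geo.decompositionStabilizer D) :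
    ((Fintype.card F).Prime ∧ ∃ D : Fin 9 → Submodule F (ι → F),
      Cfsg.Geo.IsOrthogonalMDecomposition (⇑Q) 1 D ∧
      H = Cfsg.Geo.decompositionStabilizer D ⊓ Cfsg.Geo.omegaGL ⇑Q) ∨
    (∃ (F₀ : Subfield F) (r : ℕ) (P : GL ι F), r.Prime ∧ Fintype.card F = Nat.card F₀ ^ r ∧
      Cfsg.Geo.IsQuadFormRationalStructure (⇑Q) F₀ P ∧
      H = Cfsg.Geo.subfieldSubgroup F₀ P ⊓ Cfsg.Geo.omegaGL ⇑Q) := by
  classical
  let b : Basis (Fin 3) F (D 0) := Module.finBasisOfFinrankEq F _ (hD.decomp.decomp.finrank_eq 0)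
  let B : (ι → F) →ₗ[F] (ι → F) →ₗ[F] F := polarBilin Q
  let β : Matrix (Fin 3) (Fin 3) F := Matrix.of fun l m => B (b l) (b m)
  have hs : βᵀ = β := by ext l m; exact quad_polar_comm Q _ _
  have hβ : β.det ≠ 0 := by
    intro h0
    obtain ⟨u, hu0, hu⟩ := Matrix.exists_mulVec_eq_zero_iff.mpr h0
    set x : D 0 := b.equivFun.symm u with hx
    have hx0 : (x : ι → F) ≠ 0 := fun h => hu0 (by
      have : x = 0 := Subtype.ext h
      rwa [hx, LinearEquiv.map_eq_zero_iff] at this)
    obtain ⟨⟨w, hw, hw'⟩, -⟩ := hD.decomp.nondegenerate 0 _ x.2 hx0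
    refine hw' ?_
    rw [← polarBilin_apply_apply]
    obtain ⟨c, hc⟩ : ∃ c, b.equivFun.symm c = ⟨w, hw⟩ := b.equivFun.symm.surjective _
    rw [show w = (b.equivFun.symm c : ι → F) from (congrArg Subtype.val hc).symm, hx, b.equivFun_symm_apply,
      b.equivFun_symm_apply]
    simp only [Submodule.coe_sum, Submodule.coe_smul, map_sum, map_smul, LinearMap.sum_apply, LinearMap.smul_apply,
      smul_eq_mul]
    simp only [Finset.mul_sum]
    rw [Finset.sum_comm]
    refine Finset.sum_eq_zero fun l _ => ?_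
    have h := congrFun hu l
    simp only [β, Matrix.mulVec, dotProduct, Matrix.of_apply, Pi.zero_apply] at h
    calc _ = c l * ∑ m, B (b l) (b m) * u m := by
          rw [Finset.mul_sum]
          exact Finset.sum_congr rfl fun m _ => by simp only [B]; ring
      _ = 0 := by rw [h, mul_zero]
  obtain ⟨R, a, ha, -, hR⟩ := Tensor.exists_scalar_frame h2 β hs hβ
  let w : Fin 3 → D 0 := fun l => ∑ r, R r l • b r
  have hw : ∀ l m, B (w l) (w m) = if l = m then a else 0 := by
    intro l m
    have h := congrFun (congrFun hR l) m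
    simp only [Matrix.mul_apply, Matrix.transpose_apply, Finset.sum_mul, β, Matrix.of_apply, Matrix.smul_apply,
      Matrix.one_apply, smul_eq_mul, mul_ite, mul_one, mul_zero] at h
    rw [← h]
    simp only [w, Submodule.coe_sum, Submodule.coe_smul, map_sum, map_smul, LinearMap.sum_apply,
      LinearMap.smul_apply, smul_eq_mul, Finset.mul_sum]
    exact Finset.sum_congr rfl fun r _ => Finset.sum_congr rfl fun s _ => by ring
  choose E hE using fun i => hD.isometric 0 i
  have hEB : ∀ i (x y : D 0), B (E i x) (E i y) = B x y := fun i x y => by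
    simp only [B, polarBilin_apply_apply, QuadraticMap.polar, ← Submodule.coe_add, ← map_add, hE]
  let V : Fin 3 → Fin 3 → (ι → F) := fun i l => (E i (w l) : ι → F)
  have hV : ∀ i l j m, B (V i l) (V j m) = if i = j ∧ l = m then a else 0 := by
    intro i l j m
    by_cases hij : i = j
    · subst hij; simp only [V, hEB, hw, true_and]
    · rw [if_neg fun h => hij h.1]
      simp only [B, polarBilin_apply_apply]
      exact hD.decomp.orthogonal i j hij _ (E i (w l)).2 _ (E j (w m)).2
  let p : Fin 9 ≃ Fin 3 × Fin 3 := (finProdFinEquiv (m := 3) (n := 3)).symm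
  have hQV : ∀ i l, Q (V i l) = a / 2 := fun i l => by
    have h := hV i l i l
    simp only [B, quad_polar_self, and_self, if_true] at h
    rw [eq_div_iff h2, ← h, mul_comm]
  refine lines_case hN h2 hn hd hH (fun k => V (p k).1 (p k).2) (a := a / 2) (div_ne_zero ha h2)
    (fun k => hQV _ _) (fun k l hkl => ?_) (fun g hg k => ?_)
  · show B _ _ = 0
    rw [hV, if_neg fun h => hkl (p.injective (Prod.ext h.1 h.2))]
  obtain ⟨σ, hσ⟩ := hle hg
  set i := σ (p k).1
  have hmem : (g : Matrix ι ι F) *ᵥ V (p k).1 (p k).2 ∈ D i :=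
    hσ _ ▸ ⟨_, (E _ _).2, Matrix.toLin'_apply _ _⟩
  have hli : LinearIndependent F (V i) := indep_of_orth (Q := Q)
    (fun l => by show B _ _ ≠ 0; rw [hV, if_pos ⟨rfl, rfl⟩]; exact ha)
    (fun l m hlm => by show B _ _ = 0; rw [hV, if_neg fun h => hlm h.2])
  have hspan : Submodule.span F (Set.range (V i)) = D i :=
    Submodule.eq_of_le_of_finrank_eq (Submodule.span_le.mpr (by rintro _ ⟨l, rfl⟩; exact (E i (w l)).2))
      (by rw [finrank_span_eq_card hli, Fintype.card_fin, hD.decomp.decomp.finrank_eq])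
  rw [← hspan, Submodule.mem_span_range_iff_exists_fun] at hmem
  obtain ⟨c, hc⟩ := hmem
  have hsum : ∑ l, c l * c l = 1 := by
    have h1 : B (∑ l, c l • V i l) (∑ l, c l • V i l) = a := by
      rw [hc]
      show polarBilin Q _ _ = a
      rw [Orth.iso_polar (Orth.omegaGL_le_isometry (hH.1.le hg))]
      show B _ _ = a
      rw [hV, if_pos ⟨rfl, rfl⟩]
    simp only [map_sum, map_smul, LinearMap.sum_apply, LinearMap.smul_apply, hV, true_and, smul_eq_mul, mul_ite,
      mul_zero, Finset.sum_ite_eq', Finset.sum_ite_eq, Finset.mem_univ, if_true, ← mul_assoc, ← Finset.sum_mul] at h1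
    exact (mul_eq_right₀ ha).mp h1
  obtain ⟨l, hl, hl'⟩ := unit_vector hq hsum
  refine ⟨p.symm (i, l), c l, ?_⟩
  rw [← hc, Finset.sum_eq_single l (fun m _ hm => by rw [hl' m hm, zero_smul])
    (fun h => absurd (Finset.mem_univ _) h)]
  simp

end Cfsg.Agent.Lib.OrthNine.Lines
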