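import Cfsg.Agent.Lib.OrthNine.Homog
import Cfsg.Agent.Lib.PrimeDim.OrthOddStd

/-!
The maximal subgroups of `Ω` in dimension nine over a field of odd order.
-/

set_option autoImplicit false
set_option linter.unusedSectionVars false
set_option linter.style.haveILetI false

namespace Cfsg.Agent.Lib.OrthNine.Main

open Matrix Module QuadraticMap Cfsg.Agent.Lib.MaxSub
open Cfsg.Agent.Lib.PrimeDim (OrthProper.eq_inf_of_le OrthCore.gen_of_field OrthCore.exists_minimal_normal)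
open Cfsg.Agent.Lib.TwoPrimeDim (centre mem_centre centre_cases centre_normalized)
open scoped MatrixGroups Matrix

attribute [-simp] QuadraticMap.polarBilin_apply_apply

variable {ι : Type} [Fintype ι] [DecidableEq ι] {F : Type*} [Field F] [Fintype F]
  {Q : QuadraticForm F (ι → F)} (hN : (polarBilin Q).Nondegenerate)

local notation "MM" => Matrix ι ι F

theorem perfect_of_minimal {H N : Subgroup (GL ι F)} (hnor : ∀ h ∈ H, ∀ x ∈ N, h * x * h⁻¹ ∈ N)
    (hmin : ∀ M : Subgroup (GL ι F), M ≤ N → (∀ h ∈ H, ∀ x ∈ M, h * x * h⁻¹ ∈ M) → M = ⊥ ∨ M = N)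
    (hnab : ∃ x ∈ N, ∃ y ∈ N, x * y ≠ y * x) : ⁅N, N⁆ = N := by
  obtain ⟨x₀, hx₀, y₀, hy₀, hxy⟩ := hnab
  refine (hmin ⁅N, N⁆ (Subgroup.commutator_le.mpr fun a ha b hb =>
    N.mul_mem (N.mul_mem (N.mul_mem ha hb) (N.inv_mem ha)) (N.inv_mem hb)) fun h hh x hx => ?_).resolve_left
    fun h => hxy ?_
  · have hmap : (⁅N, N⁆ : Subgroup (GL ι F)).map (MulAut.conj h).toMonoidHom ≤ ⁅N, N⁆ := by
      rw [Subgroup.map_commutator]
      refine Subgroup.commutator_mono ?_ ?_ <;> (rintro _ ⟨y, hy, rfl⟩; exact hnor h hh y hy)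
    exact hmap ⟨x, hx, rfl⟩
  · have := Subgroup.commutator_mem_commutator hx₀ hy₀
    rw [h, Subgroup.mem_bot] at this
    exact commutatorElement_eq_one_iff_mul_comm.mp this

theorem scalar_of_abs [Nonempty ι] {N : Subgroup (GL ι F)}
    (habs : Cfsg.Geo.ActsAbsolutelyIrreducibly (Cfsg.Geo.matrixSet N)) {g : GL ι F}
    (hg : ∀ x ∈ N, g * x = x * g) : g ∈ Cfsg.Geo.scalars ι F := by
  obtain ⟨c, hc⟩ := habs.2 g (by rintro _ ⟨x, hx, rfl⟩; exact congrArg Units.val (hg x hx))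
  exact Cfsg.Agent.Lib.KnownA.PrimeDim.mem_scalars_of_matrix Fintype.card_pos hc

theorem nonabelian_of_centre [Nonempty ι] {N : Subgroup (GL ι F)}
    (hc : ∀ M ∈ centre N, ∃ c : F, M = c • (1 : MM)) (hs : ∀ x ∈ N, x ∈ Cfsg.Geo.scalars ι F → x = 1)
    (hN0 : N ≠ ⊥) : ∃ x ∈ N, ∃ y ∈ N, x * y ≠ y * x := by
  by_contra hab
  push Not at hab
  refine hN0 ((Subgroup.eq_bot_iff_forall _).mpr fun x hx => hs x hx ?_)
  obtain ⟨c, hcx⟩ := hc (x : MM) (mem_centre.mpr ⟨fun g hg => congrArg Units.val (hab g hg x hx),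
    fun X hX => (hX x hx).symm⟩)
  exact Cfsg.Agent.Lib.KnownA.PrimeDim.mem_scalars_of_matrix Fintype.card_pos hcx

include hN in
set_option maxHeartbeats 1000000 in
/-- An absolutely irreducible minimal normal subgroup is a residual core or splits along a tensor square. -/
theorem abs_cases (h2 : (2 : F) ≠ 0) (hn : Fintype.card ι = 9) {H N : Subgroup (GL ι F)}
    (hle : N ≤ H) (hiso : N ≤ Cfsg.isometryGroup F ⇑Q) (hnor : ∀ h ∈ H, ∀ x ∈ N, h * x * h⁻¹ ∈ N)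
    (hmin : ∀ M : Subgroup (GL ι F), M ≤ N → (∀ h ∈ H, ∀ x ∈ M, h * x * h⁻¹ ∈ M) → M = ⊥ ∨ M = N)
    (hs : ∀ x ∈ N, x ∈ Cfsg.Geo.scalars ι F → x = 1)
    (habs : Cfsg.Geo.ActsAbsolutelyIrreducibly (Cfsg.Geo.matrixSet N))
    (hnab : ∃ x ∈ N, ∃ y ∈ N, x * y ≠ y * x)
    (hsub : ∀ F₀ : Subfield F, F₀ ≠ ⊤ → ¬ Cfsg.Geo.RealisableOver F₀ (Cfsg.Geo.matrixSet N)) :
    Cfsg.Geo.IsResidualCore H N ∨
      ∃ K : Subgroup (GL ι F), K ≤ H ∧ ⁅K, K⁆ = K ∧ (∃ x ∈ K, ∃ y ∈ K, x * y ≠ y * x) ∧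
        Nonempty (Tensor.Frame Q K) ∧
        ∀ h ∈ H, (∀ x ∈ K, h * x * h⁻¹ ∈ K) ∨ (∀ x ∈ K, ∀ y ∈ K, h * x * h⁻¹ * y = y * (h * x * h⁻¹)) := by
  classical
  haveI : Nonempty ι := Fintype.card_pos_iff.mp (by omega)
  obtain ⟨x₀, hx₀, y₀, hy₀, hxy⟩ := hnab
  have hN0 : N ≠ ⊥ := fun h => by
    rw [h, Subgroup.mem_bot] at hx₀
    exact hxy (by rw [hx₀, one_mul, mul_one])
  have hNperf := perfect_of_minimal hnor hmin ⟨x₀, hx₀, y₀, hy₀, hxy⟩
  obtain ⟨K, hKN, hK0, hKn, hKmin⟩ := OrthCore.exists_minimal_normal hN0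
  by_cases hall : ∀ h ∈ H, ∀ x ∈ K, h * x * h⁻¹ ∈ K
  · left
    have hKeq : K = N := (hmin K hKN hall).resolve_left hK0
    subst hKeq
    haveI hsimple : IsSimpleGroup K := by
      haveI : Nontrivial K := ⟨⟨x₀, hx₀⟩, 1, fun h => hxy (by
        rw [show x₀ = 1 from congrArg Subtype.val h, one_mul, mul_one])⟩
      refine ⟨fun L hL => ?_⟩
      rcases hKmin (L.map K.subtype) (Subgroup.map_subtype_le L) (by
        rintro h hh _ ⟨x, hx, rfl⟩
        exact ⟨⟨h, hh⟩ * x * ⟨h, hh⟩⁻¹, hL.conj_mem x hx _, rfl⟩) with h | h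
      · exact Or.inl ((Subgroup.map_eq_bot_iff_of_injective L K.subtype_injective).mp h)
      · refine Or.inr (eq_top_iff.mpr fun z _ => ?_)
        obtain ⟨y, hy, hyz⟩ : (z : GL ι F) ∈ L.map K.subtype := h.symm ▸ z.2
        exact Subtype.ext hyz ▸ hy
    have hbot : (Cfsg.Geo.scalars ι F).subgroupOf K = ⊥ :=
      (Subgroup.eq_bot_iff_forall _).mpr fun x hx => Subtype.ext (hs x x.2 hx)
    have e : (K ⧸ (Cfsg.Geo.scalars ι F).subgroupOf K) ≃* K :=
      (QuotientGroup.quotientMulEquivOfEq hbot).trans QuotientGroup.quotientBot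
    refine ⟨hle, hnor, hNperf, ?_, ?_, fun h hh hc => scalar_of_abs habs fun x hx => ?_, habs, hsub⟩
    · haveI : Nontrivial (K ⧸ (Cfsg.Geo.scalars ι F).subgroupOf K) := e.toEquiv.nontrivial
      exact IsSimpleGroup.isSimpleGroup_of_surjective e.symm.toMonoidHom e.symm.surjective
    · intro hc
      refine hxy ?_
      have := hc.is_comm.comm (e.symm ⟨x₀, hx₀⟩) (e.symm ⟨y₀, hy₀⟩)
      rw [← map_mul, ← map_mul] at this
      exact congrArg Subtype.val (e.symm.injective this)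
    · have := hs _ (K.mul_mem (hnor h hh x hx) (K.inv_mem hx)) (hc x hx)
      rw [mul_inv_eq_one, mul_inv_eq_iff_eq_mul] at this
      exact this
  right
  let C : GL ι F → Subgroup (GL ι F) := fun h => K.map (MulAut.conj h).toMonoidHom
  have hCN : ∀ h ∈ H, C h ≤ N := by
    rintro h hh _ ⟨x, hx, rfl⟩; exact hnor h hh x (hKN hx)
  have hCn : ∀ h ∈ H, ∀ g ∈ N, ∀ y ∈ C h, g * y * g⁻¹ ∈ C h := by
    rintro h hh g hg _ ⟨x, hx, rfl⟩
    have hg' : h⁻¹ * g * h ∈ N := by simpa using hnor h⁻¹ (H.inv_mem hh) g hg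
    exact ⟨_, hKn _ hg' x hx, by simp only [MulEquiv.coe_toMonoidHom, MulAut.conj_apply]; group⟩
  have hCinf : ∀ h ∈ H, ∀ h' ∈ H, ∀ a ∈ C h, ∀ b ∈ C h', C h = C h' ∨ a * b = b * a := by
    intro h hh h' hh' a ha b hb
    by_cases heq : C h = C h'
    · exact Or.inl heq
    right
    have hbot : C h ⊓ C h' = ⊥ := by
      let M := (C h ⊓ C h').comap (MulAut.conj h).toMonoidHom
      have hM : ∀ {x}, x ∈ M ↔ h * x * h⁻¹ ∈ C h ⊓ C h' := by simp [M]
      have hMK : M ≤ K := fun x hx => by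
        obtain ⟨y, hy, he⟩ := (hM.mp hx).1
        have : y = x := (MulAut.conj h).injective he
        exact this ▸ hy
      have hMn : ∀ g ∈ N, ∀ x ∈ M, g * x * g⁻¹ ∈ M := by
        intro g hg x hx
        have e : h * (g * x * g⁻¹) * h⁻¹ = (h * g * h⁻¹) * (h * x * h⁻¹) * (h * g * h⁻¹)⁻¹ := by group
        refine hM.mpr ?_
        rw [e]
        exact ⟨hCn h hh _ (hnor h hh g hg) _ (hM.mp hx).1, hCn h' hh' _ (hnor h hh g hg) _ (hM.mp hx).2⟩
      rcases hKmin M hMK hMn with h0 | h0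
      · refine (Subgroup.eq_bot_iff_forall _).mpr fun z hz => ?_
        have : h⁻¹ * z * h ∈ M := hM.mpr (by simpa [mul_assoc] using hz)
        rw [h0, Subgroup.mem_bot] at this
        calc z = h * (h⁻¹ * z * h) * h⁻¹ := by group
          _ = 1 := by rw [this]; group
      · exfalso
        refine heq (Subgroup.eq_of_le_of_card_ge ?_ (le_of_eq ?_))
        · rintro _ ⟨x, hx, rfl⟩
          exact (hM.mp (h0.symm ▸ hx)).2
        · exact (Subgroup.card_map_of_injective (f := (MulAut.conj h').toMonoidHom) (MulAut.conj h').injective).trans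
            (Subgroup.card_map_of_injective (f := (MulAut.conj h).toMonoidHom) (MulAut.conj h).injective).symm
    have h1 : a * b * a⁻¹ * b⁻¹ ∈ C h ⊓ C h' :=
      Subgroup.mem_inf.mpr
        ⟨by rw [show a * b * a⁻¹ * b⁻¹ = a * (b * a⁻¹ * b⁻¹) by group]
            exact (C h).mul_mem ha (hCn h hh b (hCN h' hh' hb) _ ((C h).inv_mem ha)),
          (C h').mul_mem (hCn h' hh' a (hCN h hh ha) _ hb) ((C h').inv_mem hb)⟩
    rw [hbot, Subgroup.mem_bot] at h1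
    exact commutatorElement_eq_one_iff_mul_comm.mp h1
  push Not at hall
  obtain ⟨h₁, hh₁, k₁, hk₁, hk₁'⟩ := hall
  have hC1 : ∀ {z}, z ∈ C 1 ↔ z ∈ K := fun {z} => by simp [C]
  have hcase : ∀ h ∈ H, (∀ x ∈ K, h * x * h⁻¹ ∈ K) ∨
      (∀ x ∈ K, ∀ y ∈ K, h * x * h⁻¹ * y = y * (h * x * h⁻¹)) := by
    intro h hh
    by_cases heq : C h = C 1
    · exact Or.inl fun x hx => hC1.mp (heq ▸ ⟨x, hx, rfl⟩)
    · exact Or.inr fun x hx y hy =>
        (hCinf h hh 1 H.one_mem (h * x * h⁻¹) ⟨x, hx, rfl⟩ y (hC1.mpr hy)).resolve_left heq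
  let S : Set (GL ι F) := {y | ∃ h ∈ H, y ∈ C h}
  have hSN : Subgroup.closure S = N := by
    refine (hmin _ ((Subgroup.closure_le _).mpr fun y hy => ?_) fun g hg x hx => ?_).resolve_left fun h0 => ?_
    · obtain ⟨h, hh, hy'⟩ := hy; exact hCN h hh hy'
    · have hmap : (Subgroup.closure S).map (MulAut.conj g).toMonoidHom ≤ Subgroup.closure S := by
        rw [MonoidHom.map_closure]
        refine Subgroup.closure_mono ?_
        rintro _ ⟨y, ⟨h, hh, z, hz, rfl⟩, rfl⟩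
        exact ⟨g * h, H.mul_mem hg hh, z, hz, by
          simp only [MulEquiv.coe_toMonoidHom, MulAut.conj_apply]; group⟩
      exact hmap ⟨x, hx, rfl⟩
    · refine hk₁' ?_
      have : h₁ * k₁ * h₁⁻¹ ∈ Subgroup.closure S := Subgroup.subset_closure ⟨h₁, hh₁, k₁, hk₁, rfl⟩
      rw [h0, Subgroup.mem_bot] at this
      rw [this]; exact K.one_mem
  have hKnab : ∃ x ∈ K, ∃ y ∈ K, x * y ≠ y * x := by
    by_contra hKab
    push Not at hKab
    have hScomm : ∀ a ∈ S, ∀ b ∈ S, a * b = b * a := by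
      rintro a ⟨h, hh, ha⟩ b ⟨h', hh', hb⟩
      rcases hCinf h hh h' hh' a ha b hb with he | he
      · rw [← he] at hb
        obtain ⟨x, hx, rfl⟩ := ha
        obtain ⟨y, hy, rfl⟩ := hb
        rw [← map_mul, ← map_mul, hKab x hx y hy]
      · exact he
    have hSc : Subgroup.closure S ≤ Subgroup.centralizer (N : Set (GL ι F)) := by
      refine (Subgroup.closure_le _).mpr fun a ha => Subgroup.mem_centralizer_iff.mpr fun z hz => ?_
      rw [SetLike.mem_coe, ← hSN] at hz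
      have hle : Subgroup.closure S ≤ Subgroup.centralizer {a} := (Subgroup.closure_le _).mpr fun b hb => by
        simp [Subgroup.mem_centralizer_iff, hScomm a ha b hb]
      exact (Subgroup.mem_centralizer_iff.mp (hle hz) a rfl).symm
    rw [hSN] at hSc
    exact hxy (Subgroup.mem_centralizer_iff.mp (hSc hy₀) x₀ hx₀)
  have hcentre : ∀ M ∈ centre K, ∃ c : F, M = c • (1 : MM) := by
    intro M hM
    rw [mem_centre] at hM
    refine habs.2 M ?_
    rintro _ ⟨x, hx, rfl⟩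
    rw [← hSN] at hx
    induction hx using Subgroup.closure_induction with
    | mem y hy =>
      obtain ⟨h, hh, hy⟩ := hy
      by_cases heq : C h = C 1
      · exact (hM.1 y (hC1.mp (heq ▸ hy))).symm
      · refine (hM.2 (y : MM) fun g hg => ?_).symm
        exact congrArg Units.val ((hCinf h hh 1 H.one_mem y hy g (hC1.mpr hg)).resolve_left heq).symm
    | one => simp
    | mul a b _ _ ha hb =>
      simp only at ha hb ⊢
      rw [Units.val_mul, ← mul_assoc, ha, mul_assoc, hb, mul_assoc]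
    | inv a _ ha =>
      simp only at ha ⊢
      have := congrArg (fun X => ((a⁻¹ : GL ι F) : MM) * X * ((a⁻¹ : GL ι F) : MM)) ha.symm
      simp only [← mul_assoc, Units.inv_mul, one_mul] at this
      rw [mul_assoc _ (a : MM), Units.mul_inv, mul_one] at this
      exact this
  refine ⟨K, hKN.trans hle, perfect_of_minimal hKn hKmin hKnab, hKnab, ?_, hcase⟩
  rcases Homog.homog_cases hN h2 hn habs.1 hKn hcentre (hKN.trans hiso) (fun x hx => hs x (hKN hx)) hK0 with h | h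
  · exact h
  exfalso
  have hy0 : h₁ * k₁ * h₁⁻¹ = 1 := by
    refine hs _ (hnor h₁ hh₁ k₁ (hKN hk₁)) (scalar_of_abs h fun x hx => ?_)
    rcases hcase h₁ hh₁ with h' | h'
    · exact absurd (h' k₁ hk₁) hk₁'
    · exact h' k₁ hk₁ x hx
  exact hk₁' (hy0 ▸ K.one_mem)

include hN in
/-- Every maximal subgroup of `Ω` in dimension nine is geometric or residual. -/
theorem maximal_cases (h2 : (2 : F) ≠ 0) (hn : Fintype.card ι = 9)
    (hd : ∀ F₀ : Subfield F, (Cfsg.Geo.gramMatrix (QuadraticMap.polar ⇑Q)).det ∈ F₀)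
    (H : Subgroup (GL ι F)) (hH : Cfsg.Geo.IsMaximalIn (Cfsg.Geo.omegaGL ⇑Q) H) :
    (∃ W : Submodule F (ι → F), W ≠ ⊥ ∧ Cfsg.Geo.IsTotallySingularQuad (⇑Q) W ∧
      H = Cfsg.Geo.subspaceStabilizer W ⊓ Cfsg.Geo.omegaGL ⇑Q) ∨
    (∃ W : Submodule F (ι → F), W ≠ ⊥ ∧ Even (Module.finrank F W) ∧
      Cfsg.Geo.IsNondegenerateOn (QuadraticMap.polar ⇑Q) W ∧
      ¬ (Fintype.card F = 3 ∧ Module.finrank F W = 2 ∧ Cfsg.Geo.IsPlusTypeOn (⇑Q) W) ∧
      H = Cfsg.Geo.subspaceStabilizer W ⊓ Cfsg.Geo.omegaGL ⇑Q) ∨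
    ((Fintype.card F).Prime ∧ ∃ D : Fin 9 → Submodule F (ι → F),
      Cfsg.Geo.IsOrthogonalMDecomposition (⇑Q) 1 D ∧
      H = Cfsg.Geo.decompositionStabilizer D ⊓ Cfsg.Geo.omegaGL ⇑Q) ∨
    (5 ≤ Fintype.card F ∧ ∃ D : Fin 3 → Submodule F (ι → F),
      Cfsg.Geo.IsOrthogonalMDecomposition (⇑Q) 3 D ∧
      H = Cfsg.Geo.decompositionStabilizer D ⊓ Cfsg.Geo.omegaGL ⇑Q) ∨
    (∃ K : Subalgebra F MM, Cfsg.Geo.IsFieldSubalgebra 3 K ∧
      Cfsg.Geo.IsSelfAdjointFor (QuadraticMap.polar ⇑Q) K ∧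
      H = Cfsg.Geo.subalgebraNormalizer K ⊓ Cfsg.Geo.omegaGL ⇑Q) ∨
    (∃ (F₀ : Subfield F) (r : ℕ) (P : GL ι F), r.Prime ∧ Fintype.card F = Nat.card F₀ ^ r ∧
      Cfsg.Geo.IsQuadFormRationalStructure (⇑Q) F₀ P ∧
      H = Cfsg.Geo.subfieldSubgroup F₀ P ⊓ Cfsg.Geo.omegaGL ⇑Q) ∨
    (5 ≤ Fintype.card F ∧ ∃ (e : ι ≃ (Fin 2 → Fin 3)) (P : GL ι F) (f₁ : (Fin 3 → F) → (Fin 3 → F) → F),
      Cfsg.Geo.IsSymmetricForm f₁ ∧ Cfsg.Geo.IsTensorPowerFormStructure id (QuadraticMap.polar ⇑Q) f₁ e P ∧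
      H = Cfsg.Geo.tensorWreathSubgroup 3 2 e P ⊓ Cfsg.Geo.omegaGL ⇑Q) ∨
    Cfsg.Geo.InOrthogonalResidualClass H := by
  haveI : Nonempty ι := Fintype.card_pos_iff.mp (by omega)
  have hodd : Odd (Fintype.card ι) := hn.symm ▸ ⟨4, rfl⟩
  have h7 : 7 ≤ Fintype.card ι := by omega
  by_cases hirr : Cfsg.Geo.ActsIrreducibly (Cfsg.Geo.matrixSet H)
  swap
  · rw [Cfsg.Agent.Lib.KnownA.PrimeDim.actsIrreducibly_iff] at hirr
    push Not at hirr
    obtain ⟨W, hW, hb, ht'⟩ := hirr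
    rcases Cfsg.Agent.Lib.PrimeDim.OrthProper.reducible_case hN h2 h7 hodd hH hb ht' hW with h | h
    · exact Or.inl h
    · exact Or.inr (Or.inl h)
  have hH0 : H ≠ ⊥ := by
    rintro rfl
    obtain ⟨v, hv⟩ : ∃ v : ι → F, v ≠ 0 := ⟨Pi.single (Classical.arbitrary ι) 1, by simp⟩
    rcases (Cfsg.Agent.Lib.KnownA.PrimeDim.actsIrreducibly_iff _).mp hirr (F ∙ v) (fun x hx w hw => by
      rw [Subgroup.mem_bot] at hx
      rwa [hx, Units.val_one, Matrix.one_mulVec]) with h | h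
    · exact hv (Submodule.span_singleton_eq_bot.mp h)
    · have := finrank_span_singleton (K := F) hv
      rw [h, finrank_top, Module.finrank_fintype_fun_eq_card] at this
      omega
  obtain ⟨N, hNH, hN0, hnor, hmin⟩ := OrthCore.exists_minimal_normal hH0
  have hs : ∀ x ∈ N, x ∈ Cfsg.Geo.scalars ι F → x = 1 := fun x hx hxs =>
    Cfsg.Agent.Lib.PrimeDim.OrthProper.scalar_eq_one hodd hN (hH.1.le (hNH hx)) hxs
  have hHiso : H ≤ Cfsg.isometryGroup F ⇑Q := fun x hx => Orth.omegaGL_le_isometry (hH.1.le hx)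
  have hNiso : N ≤ Cfsg.isometryGroup F ⇑Q := hNH.trans hHiso
  right; right
  rcases centre_cases hirr hnor with ⟨r, hr, hK⟩ | ⟨t, w, e, hB⟩
  swap
  · have htw := hB.card_eq
    have h2t := hB.decomp.two_le
    rw [hn] at htw
    have ht9 : t ∈ Nat.divisors 9 := Nat.mem_divisors.mpr ⟨⟨w, htw.symm⟩, by norm_num⟩
    rw [show Nat.divisors 9 = {1, 3, 9} from by decide] at ht9
    simp only [Finset.mem_insert, Finset.mem_singleton] at ht9
    rcases ht9 with rfl | rfl | rfl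
    · omega
    · obtain rfl : w = 3 := by omega
      have hD := Adjoint.blocks_orthogonal hN hNiso hHiso ⟨1, rfl⟩ hB
      by_cases hq : Fintype.card F = 3
      · rcases Lines.refine_three hN h2 hn hq hd hH hD hB.le_stab with h | h
        · exact Or.inl h
        · exact Or.inr (Or.inr (Or.inr (Or.inl h)))
      · right; left
        have h3 := Proper.three_le_card h2
        refine ⟨?_, _, hD, OrthProper.eq_inf_of_le hH hB.le_stab
          (Proper.not_le_decomposition_three hN h2 hn _ hD.decomp.decomp.finrank_eq)⟩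
        by_contra hlt
        have hq4 : Fintype.card F = 4 := by omega
        have h := FiniteField.cast_card_eq_zero F
        rw [hq4] at h
        exact h2 (mul_self_eq_zero.mp (by linear_combination h))
    · obtain rfl : w = 1 := by omega
      have hD := Adjoint.blocks_orthogonal hN hNiso hHiso ⟨4, rfl⟩ hB
      rcases Lines.lines_of_blocks hN h2 hn hd hH hD hB.le_stab with h | h
      · exact Or.inl h
      · exact Or.inr (Or.inr (Or.inr (Or.inl h)))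
  have hself : Odd r → ∀ k ∈ centre N, Adjoint.Adj Q k k := fun ho =>
    Adjoint.self_adjoint_of_field hN hNiso h2 ho hK
  rw [hn] at hr
  have hr9 : r ∈ Nat.divisors 9 := Nat.mem_divisors.mpr ⟨hr, by norm_num⟩
  rw [show Nat.divisors 9 = {1, 3, 9} from by decide] at hr9
  simp only [Finset.mem_insert, Finset.mem_singleton] at hr9
  rcases hr9 with rfl | rfl | rfl
  rotate_left
  · right; right; left
    refine ⟨centre N, hK, fun k hk u v => ?_, OrthProper.eq_inf_of_le hH (fun g hg => centre_normalized hnor hg)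
      (Proper.not_le_subalgebraNormalizer hN h2 h7 (by norm_num) hK)⟩
    rw [← polarBilin_apply_apply, ← polarBilin_apply_apply]
    exact hself ⟨1, rfl⟩ k hk u v
  · exfalso
    refine hN0 ((Subgroup.eq_bot_iff_forall _).mpr fun x hx => hs x hx ?_)
    let v : ι → F := Pi.single (Classical.arbitrary ι) 1
    have hv : v ≠ 0 := by simp [v]
    have hK' : Cfsg.Geo.IsFieldSubalgebra (Fintype.card ι) (centre N) := hn.symm ▸ hK
    obtain ⟨k, hk, hkv⟩ := OrthCore.gen_of_field hK' hv ((x : MM) *ᵥ v)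
    have hxk : (x : MM) = k := Matrix.ext_of_mulVec_single fun j => by
      obtain ⟨l, hl, hlv⟩ := OrthCore.gen_of_field hK' hv (Pi.single j 1)
      rw [← hlv, Matrix.mulVec_mulVec, Matrix.mulVec_mulVec, (mem_centre.mp hl).1 x hx, hK.comm k hk l hl,
        ← Matrix.mulVec_mulVec, ← Matrix.mulVec_mulVec, hkv]
    have hadj : Adjoint.Adj Q (x : MM) (x : MM) := hxk ▸ hself ⟨4, rfl⟩ k hk
    have hinv : ((x⁻¹ : GL ι F) : MM) = x := (Adjoint.adj_iso (hNiso hx)).unique hN hadj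
    have hxx : (x : MM) * x = 1 := by
      conv_lhs => arg 2; rw [← hinv]
      rw [Units.mul_inv]
    have hprod : ((x : MM) - 1) * ((x : MM) + 1) = 0 := by
      rw [sub_mul, mul_add, one_mul, mul_one, hxx]; abel
    rcases eq_or_ne ((x : MM) - 1) 0 with h | h
    · exact Cfsg.Agent.Lib.KnownA.PrimeDim.mem_scalars_of_matrix Fintype.card_pos (c := 1)
        (by rw [one_smul]; exact sub_eq_zero.mp h)
    · obtain ⟨y, hy, hy1⟩ := hK.inv _ ((centre N).sub_mem (hxk ▸ hk) (centre N).one_mem) h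
      have h' := congrArg (y * ·) hprod
      simp only [← mul_assoc, mul_zero] at h'
      rw [hK.comm y hy _ ((centre N).sub_mem (hxk ▸ hk) (centre N).one_mem), hy1, one_mul] at h'
      exact Cfsg.Agent.Lib.KnownA.PrimeDim.mem_scalars_of_matrix Fintype.card_pos (c := -1)
        (by rw [neg_one_smul]; exact eq_neg_of_add_eq_zero_left h')
  have hc : ∀ M ∈ centre N, ∃ c : F, M = c • (1 : MM) := fun M hM => by
    rw [Subalgebra.eq_bot_of_finrank_one hK.finrank_eq, Algebra.mem_bot] at hM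
    obtain ⟨c, rfl⟩ := hM
    exact ⟨c, Algebra.algebraMap_eq_smul_one c⟩
  have hnab := nonabelian_of_centre hc hs hN0
  have hperf := perfect_of_minimal hnor hmin hnab
  right; right; right
  rcases Homog.homog_cases hN h2 hn hirr hnor hc hNiso hs hN0 with ⟨⟨Φ⟩⟩ | habs
  · exact Or.inr (Or.inl (Homog.tensor_case hN h2 hn hH hNH hperf hnab Φ fun h hh =>
      Or.inl fun x hx => hnor h hh x hx))
  have hfix : Cfsg.Geo.FixesQuadForm (Cfsg.Geo.matrixSet N) ⇑Q := by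
    rintro _ ⟨x, hx, rfl⟩ v
    exact Orth.iso_quad (hNiso hx) v
  have hNQ := Cfsg.Agent.Lib.PrimeDim.OrthCases.nondegenerateForm hN
  by_cases hreal : ∃ F₀ : Subfield F, F₀ ≠ ⊤ ∧ Cfsg.Geo.RealisableOver F₀ (Cfsg.Geo.matrixSet N)
  · left
    obtain ⟨F₀, h0, hR⟩ := hreal
    obtain ⟨F₁, r, h1, hr, hcard, hR1⟩ := PrimeDim.FormDescent.exists_prime_index_realisable h0 hR
    obtain ⟨B', hB', hBn⟩ := PrimeDim.FormDescent.exists_quad_structure hodd h2 hNQ (hd F₁) habs hfix hR1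
    exact ⟨F₁, r, B', hr, by rw [← Nat.card_eq_fintype_card]; exact hcard, hB',
      OrthProper.eq_inf_of_le hH (fun g hg => hBn g fun x hx => hnor g hg x hx)
        (Cfsg.Agent.Lib.PrimeDim.OrthProper.not_le_subfieldSubgroup hN h2 h7 h1 B')⟩
  push Not at hreal
  right
  rcases abs_cases hN h2 hn hNH hNiso hnor hmin hs habs hnab hreal with hcore | ⟨K, hKH, hKp, hKnab, ⟨Φ⟩, hcase⟩
  · refine Or.inr ⟨N, hcore, ?_⟩
    rintro ⟨σ, f, hf, hff⟩
    obtain ⟨F₀, h0, -, hR⟩ := PrimeDim.FormDescent.realisable_of_unitary_quad hf hNQ habs hff hfix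
    exact hreal F₀ h0 hR
  · exact Or.inl (Homog.tensor_case hN h2 hn hH hKH hKp hKnab Φ hcase)

/-- The maximal subgroups of `Ω` of the standard form in dimension nine. -/
theorem maximal_cases_std {F : Type*} [Field F] [Fintype F] (hodd : Odd (Fintype.card F))
    (H : Subgroup (GL (Unit ⊕ (Fin 4 ⊕ Fin 4)) F))
    (hH : Cfsg.Geo.IsMaximalIn (Cfsg.Geo.omegaGL (Cfsg.quadFormOdd 4 F)) H) :
    (∃ W : Submodule F (Unit ⊕ (Fin 4 ⊕ Fin 4) → F), W ≠ ⊥ ∧
      Cfsg.Geo.IsTotallySingularQuad (Cfsg.quadFormOdd 4 F) W ∧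
      H = Cfsg.Geo.subspaceStabilizer W ⊓ Cfsg.Geo.omegaGL (Cfsg.quadFormOdd 4 F)) ∨
    (∃ W : Submodule F (Unit ⊕ (Fin 4 ⊕ Fin 4) → F), W ≠ ⊥ ∧ Even (Module.finrank F W) ∧
      Cfsg.Geo.IsNondegenerateOn (QuadraticMap.polar (Cfsg.quadFormOdd 4 F)) W ∧
      ¬ (Fintype.card F = 3 ∧ Module.finrank F W = 2 ∧ Cfsg.Geo.IsPlusTypeOn (Cfsg.quadFormOdd 4 F) W) ∧
      H = Cfsg.Geo.subspaceStabilizer W ⊓ Cfsg.Geo.omegaGL (Cfsg.quadFormOdd 4 F)) ∨
    ((Fintype.card F).Prime ∧ ∃ D : Fin 9 → Submodule F (Unit ⊕ (Fin 4 ⊕ Fin 4) → F),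
      Cfsg.Geo.IsOrthogonalMDecomposition (Cfsg.quadFormOdd 4 F) 1 D ∧
      H = Cfsg.Geo.decompositionStabilizer D ⊓ Cfsg.Geo.omegaGL (Cfsg.quadFormOdd 4 F)) ∨
    (5 ≤ Fintype.card F ∧ ∃ D : Fin 3 → Submodule F (Unit ⊕ (Fin 4 ⊕ Fin 4) → F),
      Cfsg.Geo.IsOrthogonalMDecomposition (Cfsg.quadFormOdd 4 F) 3 D ∧
      H = Cfsg.Geo.decompositionStabilizer D ⊓ Cfsg.Geo.omegaGL (Cfsg.quadFormOdd 4 F)) ∨
    (∃ K : Subalgebra F (Matrix (Unit ⊕ (Fin 4 ⊕ Fin 4)) (Unit ⊕ (Fin 4 ⊕ Fin 4)) F),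
      Cfsg.Geo.IsFieldSubalgebra 3 K ∧
      Cfsg.Geo.IsSelfAdjointFor (QuadraticMap.polar (Cfsg.quadFormOdd 4 F)) K ∧
      H = Cfsg.Geo.subalgebraNormalizer K ⊓ Cfsg.Geo.omegaGL (Cfsg.quadFormOdd 4 F)) ∨
    (∃ (F₀ : Subfield F) (r : ℕ) (P : GL (Unit ⊕ (Fin 4 ⊕ Fin 4)) F), r.Prime ∧
      Fintype.card F = Nat.card F₀ ^ r ∧ Cfsg.Geo.IsQuadFormRationalStructure (Cfsg.quadFormOdd 4 F) F₀ P ∧
      H = Cfsg.Geo.subfieldSubgroup F₀ P ⊓ Cfsg.Geo.omegaGL (Cfsg.quadFormOdd 4 F)) ∨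
    (5 ≤ Fintype.card F ∧ ∃ (e : (Unit ⊕ (Fin 4 ⊕ Fin 4)) ≃ (Fin 2 → Fin 3))
      (P : GL (Unit ⊕ (Fin 4 ⊕ Fin 4)) F) (f₁ : (Fin 3 → F) → (Fin 3 → F) → F),
      Cfsg.Geo.IsSymmetricForm f₁ ∧
      Cfsg.Geo.IsTensorPowerFormStructure id (QuadraticMap.polar (Cfsg.quadFormOdd 4 F)) f₁ e P ∧
      H = Cfsg.Geo.tensorWreathSubgroup 3 2 e P ⊓ Cfsg.Geo.omegaGL (Cfsg.quadFormOdd 4 F)) ∨
    Cfsg.Geo.InOrthogonalResidualClass H := by
  have h2 : (2 : F) ≠ 0 := Ring.two_ne_zero fun h => Nat.not_even_iff_odd.mpr hodd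
    (Nat.even_iff.mpr (FiniteField.even_card_of_char_two h))
  have hd := Cfsg.Agent.Lib.PrimeDim.OrthOddStd.gram_det_mem (F := F) (m := 4)
  obtain ⟨Q, hQe, hN⟩ := Cfsg.Agent.Lib.MaxSub.Orth.exists_quadraticForm
    (Cfsg.Agent.Lib.PrimeDim.OrthOddStd.nondeg (m := 4) h2)
  rw [hQe] at hH hd ⊢
  exact maximal_cases hN h2 (by simp) hd H hH

end Cfsg.Agent.Lib.OrthNine.Main
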